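/-
Isometries of large order of quadratic forms in characteristic two, and their orthogonal sums.
* `Has Q N` : an isometry of `Q` of order a multiple of `N`
* `has_glue` : hyperbolic part plus a form of minus type
* `has_small` : transposition, reflection, an element of order four
* `has_eight_minus`, `has_eight_plus` : elements of order eight in dimension six
-/
import Cfsg.Agent.EqLemmas
import Cfsg.Agent.Lib.Forms.Standard

set_option autoImplicit false
set_option linter.unusedSectionVars false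
set_option linter.unusedSimpArgs false

namespace Cfsg.Agent.SpecSpEight

open Cfsg.Agent.Forms

variable {F : Type*} [Field F] {V W : Type*} [AddCommGroup V] [Module F V] [AddCommGroup W] [Module F W]

/-- An isometry of `Q` of order a multiple of `N`. -/
def Has (Q : V → F) (N : ℕ) : Prop := ∃ g : V ≃ₗ[F] V, (∀ v, Q (g v) = Q v) ∧ N ∣ orderOf g

theorem Has.mono {Q : V → F} {N M : ℕ} (h : Has Q N) (hM : M ∣ N) : Has Q M := by
  obtain ⟨g, hg, hN⟩ := h; exact ⟨g, hg, hM.trans hN⟩

theorem Has.congr {Q : V → F} {Q' : W → F} {N : ℕ} (h : Has Q N) (e : W ≃ₗ[F] V)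
    (he : ∀ w, Q (e w) = Q' w) : Has Q' N := by
  obtain ⟨g, hg, hN⟩ := h
  let g' : W ≃ₗ[F] W := e.trans (g.trans e.symm)
  refine ⟨g', fun w => by rw [← he, ← he w]; simp [g', hg], hN.trans (orderOf_dvd_of_pow_eq_one ?_)⟩
  have hk : ∀ k w, (g' ^ k) w = e.symm ((g ^ k) (e w)) := by
    intro k
    induction k with
    | zero => simp
    | succ k ih =>
      intro w
      rw [pow_succ', LinearEquiv.mul_apply, ih, pow_succ', LinearEquiv.mul_apply]
      simp [g']
  refine LinearEquiv.ext fun v => ?_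
  have h := hk (orderOf g') (e.symm v)
  rw [pow_orderOf_eq_one, e.apply_symm_apply] at h
  exact (e.symm.injective h).symm

theorem Has.prod {Q : V → F} {Q' : W → F} {N M : ℕ} (h : Has Q N) (h' : Has Q' M) :
    Has (fun p : V × W => Q p.1 + Q' p.2) (Nat.lcm N M) := by
  obtain ⟨g, hg, hN⟩ := h
  obtain ⟨g', hg', hM⟩ := h'
  let G : (V × W) ≃ₗ[F] (V × W) := g.prodCongr g'
  have hk : ∀ k p, (G ^ k) p = ((g ^ k) p.1, (g' ^ k) p.2) := by
    intro k
    induction k with
    | zero => simp
    | succ k ih =>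
      intro p
      rw [pow_succ', LinearEquiv.mul_apply, ih, pow_succ', LinearEquiv.mul_apply, pow_succ',
        LinearEquiv.mul_apply]
      rfl
  refine ⟨G, fun p => by simp [G, hg, hg'], Nat.lcm_dvd (hN.trans (orderOf_dvd_of_pow_eq_one ?_))
    (hM.trans (orderOf_dvd_of_pow_eq_one ?_))⟩
  · refine LinearEquiv.ext fun v => ?_
    have := hk (orderOf G) (v, 0)
    rw [pow_orderOf_eq_one] at this
    exact (congrArg Prod.fst this).symm
  · refine LinearEquiv.ext fun w => ?_
    have := hk (orderOf G) (0, w)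
    rw [pow_orderOf_eq_one] at this
    exact (congrArg Prod.snd this).symm

/-- Splitting off a hyperbolic part of dimension `2 m`. -/
def glueEquiv (F : Type*) [Field F] (m l : ℕ) : (((Fin (m + l) ⊕ Fin (m + l)) ⊕ Fin 2) → F) ≃ₗ[F]
    ((Fin m ⊕ Fin m → F) × ((Fin l ⊕ Fin l) ⊕ Fin 2 → F)) :=
  { toFun := fun v =>
      (Sum.elim (fun i => v (.inl (.inl (Fin.castAdd l i)))) (fun i => v (.inl (.inr (Fin.castAdd l i)))),
        Sum.elim (Sum.elim (fun i => v (.inl (.inl (Fin.natAdd m i)))) (fun i => v (.inl (.inr (Fin.natAdd m i)))))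
          (fun i => v (.inr i)))
    invFun := fun p => Sum.elim
      (Sum.elim (Fin.append (p.1 ∘ Sum.inl) (p.2 ∘ Sum.inl ∘ Sum.inl))
        (Fin.append (p.1 ∘ Sum.inr) (p.2 ∘ Sum.inl ∘ Sum.inr))) (p.2 ∘ Sum.inr)
    map_add' := fun u v => by
      refine Prod.ext ?_ ?_
      · funext x; cases x <;> rfl
      · funext x; rcases x with (x | x) | x <;> rfl
    map_smul' := fun c v => by
      refine Prod.ext ?_ ?_
      · funext x; cases x <;> rfl
      · funext x; rcases x with (x | x) | x <;> rfl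
    left_inv := fun v => by
      funext x
      rcases x with (x | x) | x
      · refine Fin.addCases (fun i => ?_) (fun i => ?_) x <;> simp
      · refine Fin.addCases (fun i => ?_) (fun i => ?_) x <;> simp
      · rfl
    right_inv := fun p => by
      refine Prod.ext ?_ ?_
      · funext x; cases x <;> simp
      · funext x; rcases x with (x | x) | x <;> simp }

theorem glueEquiv_form {a b : F} {m l : ℕ} (v : ((Fin (m + l) ⊕ Fin (m + l)) ⊕ Fin 2) → F) :
    qfPlus m F (glueEquiv F m l v).1 + qfMinus l F a b (glueEquiv F m l v).2 = qfMinus (m + l) F a b v := by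
  simp only [qfPlus_apply, qfMinus_apply, glueEquiv, LinearEquiv.coe_mk, LinearMap.coe_mk, AddHom.coe_mk,
    Cfsg.quadFormPlus, Cfsg.quadFormMinus, Sum.elim_inl, Sum.elim_inr, Fin.sum_univ_add]
  ring

/-- A hyperbolic part and a part of minus type. -/
theorem has_glue {a b : F} {m l N M : ℕ} (h : Has (qfPlus m F) N) (h' : Has (qfMinus l F a b) M) :
    Has (qfMinus (m + l) F a b) (Nat.lcm N M) :=
  (h.prod h').congr (glueEquiv F m l) glueEquiv_form

/-! ### Small elements -/

/-- A coordinate permutation of order a prime power. -/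
theorem orderOf_perm {ι : Type} [Fintype ι] [DecidableEq ι] (σ : Equiv.Perm ι) {p k : ℕ} [Fact p.Prime]
    (hσ : ∀ i, (σ^[p ^ k]) i ≠ i → False) (i₀ : ι) (hne : ∀ j, j + 1 = k → (σ^[p ^ j]) i₀ ≠ i₀) (hk : 0 < k) :
    orderOf (LinearEquiv.funCongrLeft F F σ) = p ^ k := by
  obtain ⟨j, rfl⟩ := Nat.exists_eq_add_of_le' hk
  have hit : ∀ (n : ℕ) (v : ι → F) (i : ι), ((LinearEquiv.funCongrLeft F F σ) ^ n) v i = v ((σ^[n]) i) := by
    intro n
    induction n with
    | zero => simp
    | succ n ih =>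
      intro v i
      rw [pow_succ, LinearEquiv.mul_apply, ih, Function.iterate_succ_apply']
      rfl
  refine orderOf_eq_prime_pow (fun h => ?_) (LinearEquiv.ext fun v => funext fun i => ?_)
  · have h2 := congrArg (fun f : (ι → F) ≃ₗ[F] (ι → F) => f (Pi.single i₀ 1) i₀) h
    rw [hit, Pi.single_eq_of_ne (hne j rfl)] at h2
    replace h2 : (0 : F) = 1 := h2.trans (by simp)
    exact zero_ne_one h2
  · rw [hit]
    exact congrArg v (not_not.1 fun hc => hσ i hc)

theorem has_swap : Has (qfPlus 1 F) 2 := by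
  haveI := Fact.mk Nat.prime_two
  refine ⟨LinearEquiv.funCongrLeft F F (Equiv.sumComm _ _), fun v => ?_, ?_⟩
  · simp [qfPlus_apply, Cfsg.quadFormPlus, LinearEquiv.funCongrLeft_apply, LinearMap.funLeft_apply, mul_comm]
  · rw [orderOf_perm (F := F) (Equiv.sumComm (Fin 1) (Fin 1)) (p := 2) (k := 1) (by decide) (.inl 0) (fun j hj => by
      obtain rfl : j = 0 := by omega
      decide) one_pos]
    exact dvd_refl 2

/-- The cycle `x₁ → x₂ → y₁ → y₂`. -/
def cyc : Equiv.Perm (Fin 2 ⊕ Fin 2) where
  toFun := Sum.elim (fun i => if i = 0 then .inl 1 else .inr 0) (fun i => if i = 0 then .inr 1 else .inl 0)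
  invFun := Sum.elim (fun i => if i = 0 then .inr 1 else .inl 0) (fun i => if i = 0 then .inl 1 else .inr 0)
  left_inv := by decide
  right_inv := by decide

theorem has_four : Has (qfPlus 2 F) 4 := by
  haveI := Fact.mk Nat.prime_two
  refine ⟨LinearEquiv.funCongrLeft F F cyc, fun v => ?_, ?_⟩
  · simp [qfPlus_apply, Cfsg.quadFormPlus, LinearEquiv.funCongrLeft_apply, LinearMap.funLeft_apply, cyc,
      Fin.sum_univ_two]
    ring
  · rw [orderOf_perm (F := F) cyc (p := 2) (k := 2) (by decide) (.inl 0) (fun j hj => by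
      obtain rfl : j = 1 := by omega
      decide) two_pos]
    norm_num

variable [CharP F 2]

theorem two0 : (2 : F) = 0 := CharTwo.two_eq_zero

theorem three0 : (3 : F) = 1 := by linear_combination two0 (F := F)

theorem four0 : (4 : F) = 0 := by linear_combination (2 : F) * two0 (F := F)

theorem aniso_ne_zero {a b : F} [Finite F]
    (hab : ∀ x y : F, x ^ 2 + a * x * y + b * y ^ 2 = 0 → x = 0 ∧ y = 0) : a ≠ 0 := by
  intro ha
  refine disc_ne_zero_of_anisotropic hab ?_
  rw [ha]
  linear_combination (2 * b) * two0 (F := F)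

theorem has_reflection {a b : F} [Finite F]
    (hab : ∀ x y : F, x ^ 2 + a * x * y + b * y ^ 2 = 0 → x = 0 ∧ y = 0) : Has (qfMinus 0 F a b) 2 := by
  let f : (F × F) →ₗ[F] F × F :=
    { toFun := fun z => (z.1 + a * z.2, z.2)
      map_add' := fun z w => by ext <;> simp <;> ring
      map_smul' := fun c z => by ext <;> simp <;> ring }
  have hinv : ∀ z, f (f z) = z := fun z => by
    refine Prod.ext ?_ rfl
    simp [f]
    linear_combination (a * z.2) * two0 (F := F)
  let g : (F × F) ≃ₗ[F] F × F := LinearEquiv.ofLinear f f (LinearMap.ext hinv) (LinearMap.ext hinv)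
  haveI := Fact.mk Nat.prime_two
  have hH : Has (fun z : F × F => qfBin a b z) 2 := ⟨g, fun z => by
      simp [g, f]
      linear_combination (a ^ 2 * z.2 ^ 2 + a * z.1 * z.2) * two0 (F := F), dvd_of_eq (orderOf_eq_prime
      (LinearEquiv.ext fun z => by rw [sq, LinearEquiv.mul_apply]; exact hinv z)
      (fun h => aniso_ne_zero hab (by
        have := congrArg (fun e : (F × F) ≃ₗ[F] F × F => (e (0, 1)).1) h
        simpa [g, f] using this))).symm⟩
  exact hH.congr minusZero (qfBin_minusZero a b)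

section Eight

variable (a b : F)

/-- The six-dimensional form. -/
def six (v : (F × F) × ((F × F) × (F × F))) : F := v.1.1 * v.1.2 + v.2.1.1 * v.2.1.2 + qfBin a b v.2.2

/-- A regular unipotent isometry. -/
def reg : ((F × F) × ((F × F) × (F × F))) →ₗ[F] ((F × F) × ((F × F) × (F × F))) where
  toFun v := ((v.1.1 + v.2.1.1 + a * v.2.2.1 + a ^ 2 * v.2.2.2 + b * v.2.1.2, v.1.2),
    ((v.2.1.1 + a * v.2.2.1 + a ^ 2 * v.2.2.2 + b * v.2.1.2, v.2.1.2 + v.1.2),
      (v.2.2.1 + a * v.2.2.2, v.2.2.2 + v.2.1.2)))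
  map_add' u v := by ext <;> simp <;> ring
  map_smul' c v := by ext <;> simp <;> ring

theorem six_reg (v : (F × F) × ((F × F) × (F × F))) : six a b (reg a b v) = six a b v := by
  simp [six, reg]
  ring_nf
  simp [two0 (F := F), three0 (F := F), four0 (F := F)]

theorem reg_four (v : (F × F) × ((F × F) × (F × F))) : reg a b (reg a b (reg a b (reg a b v))) =
    ((v.1.1 + a ^ 2 * v.2.1.2, v.1.2), ((v.2.1.1 + a ^ 2 * v.1.2, v.2.1.2), v.2.2)) := by
  have h2 : ∀ w, reg a b (reg a b w) =
      ((w.1.1 + (a * w.2.2.1 + b * w.2.1.2 + a ^ 2 * w.2.1.2 + b * w.1.2), w.1.2),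
        ((w.2.1.1 + (a ^ 2 * w.2.2.2 + a ^ 2 * w.2.1.2 + b * w.1.2), w.2.1.2),
          (w.2.2.1 + a * w.2.1.2, w.2.2.2 + w.1.2))) := by
    intro w
    ext <;> simp [reg] <;> ring_nf <;> simp [two0 (F := F), three0 (F := F), four0 (F := F)]
  rw [h2, h2]
  ext <;> simp <;> ring_nf <;> simp [two0 (F := F), three0 (F := F), four0 (F := F)]

theorem has_six (ha : a ≠ 0) : Has (six a b) 8 := by
  haveI := Fact.mk Nat.prime_two
  set T : Module.End F ((F × F) × ((F × F) × (F × F))) := reg a b
  have h4 : ∀ v, (T ^ 4) v = T (T (T (T v))) := fun v => by simp [pow_succ, Module.End.mul_apply]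
  have h8 : T ^ 8 = 1 := LinearMap.ext fun v => by
    rw [show 8 = 4 + 4 from rfl, pow_add, Module.End.mul_apply, h4, h4, reg_four, reg_four]
    ext <;> simp <;> ring_nf <;> simp [two0 (F := F), three0 (F := F), four0 (F := F)]
  let g : ((F × F) × ((F × F) × (F × F))) ≃ₗ[F] ((F × F) × ((F × F) × (F × F))) :=
    LinearEquiv.ofLinear T (T ^ 7) (by rw [← Module.End.mul_eq_comp, ← pow_succ']; exact h8)
      (by rw [← Module.End.mul_eq_comp, ← pow_succ]; exact h8)
  have hk : ∀ k v, (g ^ k) v = (T ^ k) v := by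
    intro k
    induction k with
    | zero => simp
    | succ k ih => intro v; rw [pow_succ', LinearEquiv.mul_apply, ih, pow_succ', Module.End.mul_apply]; rfl
  refine ⟨g, six_reg a b, dvd_of_eq (orderOf_eq_prime_pow (p := 2) (n := 2) (fun h => ?_)
    (LinearEquiv.ext fun v => by rw [hk]; simp [h8])).symm⟩
  have := congrArg (fun e : _ ≃ₗ[F] _ => (e (((0 : F), (1 : F)), (((0 : F), (0 : F)), ((0 : F), (0 : F))))).2.1.1) h
  simp only [hk, show 2 ^ 2 = 4 from rfl, h4, reg_four, T] at this
  simp [ha] at this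

theorem has_eight_minus [Finite F] (hab : ∀ x y : F, x ^ 2 + a * x * y + b * y ^ 2 = 0 → x = 0 ∧ y = 0) :
    Has (qfMinus 2 F a b) 8 := by
  refine (has_six a b (aniso_ne_zero hab)).congr ((minusSucc 1).trans
    ((LinearEquiv.refl F (F × F)).prodCongr ((minusSucc 0).trans
      ((LinearEquiv.refl F (F × F)).prodCongr minusZero)))) fun v => ?_
  simp [six, qfMinus_apply, Cfsg.quadFormMinus, Fin.sum_univ_two, minusSucc, minusZero]

theorem has_eight_plus : Has (qfPlus 3 F) 8 := by
  let e : (Fin 3 ⊕ Fin 3 → F) ≃ₗ[F] (F × F) × ((F × F) × (F × F)) :=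
    { toFun := fun v => ((v (.inl 0), v (.inr 0)), ((v (.inl 1), v (.inr 1)), (v (.inl 2), v (.inl 2) + v (.inr 2))))
      invFun := fun p => Sum.elim ![p.1.1, p.2.1.1, p.2.2.1] ![p.1.2, p.2.1.2, p.2.2.1 + p.2.2.2]
      map_add' := fun u v => by ext <;> simp <;> ring
      map_smul' := fun c v => by ext <;> simp <;> ring
      left_inv := fun v => by
        funext i
        rcases i with i | i <;> fin_cases i <;> simp <;> linear_combination (v (.inl 2)) * two0 (F := F)
      right_inv := fun p => by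
        ext <;> simp <;> linear_combination p.2.2.1 * two0 (F := F) }
  refine (has_six (1 : F) 0 one_ne_zero).congr e fun v => ?_
  simp [six, e, qfPlus_apply, Cfsg.quadFormPlus, Fin.sum_univ_three]
  linear_combination (v (.inl 2) ^ 2) * two0 (F := F)

end Eight

end Cfsg.Agent.SpecSpEight
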