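/-
Affine isometries.
* `aff g v` : the permutation `x ↦ g x + v`; `rk g` : the dimension of the image of `g - 1`
* `affGrp`, `transl` : the affine group over a group of linear maps, its translations
* `evenGrp` : the isometries with trivial Dickson invariant
* `AffHas`, `OddHas` and their gluing
-/
import Cfsg.Agent.Lib.SpecSpEight.Isom
import Cfsg.Agent.Lib.Orth.Spinor

set_option autoImplicit false
set_option linter.unusedSectionVars false

namespace Cfsg.Agent.SpecSpEight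

open Module

variable {F : Type*} [Field F] {V W : Type*} [AddCommGroup V] [Module F V] [AddCommGroup W] [Module F W]

/-- The map `x ↦ g x + v`. -/
def aff (g : V ≃ₗ[F] V) (v : V) : Equiv.Perm V := g.toEquiv.trans (Equiv.addRight v)

theorem aff_apply (g : V ≃ₗ[F] V) (v x : V) : aff g v x = g x + v := rfl

theorem aff_mul (g h : V ≃ₗ[F] V) (v w : V) : aff g v * aff h w = aff (g * h) (g w + v) := by
  ext x
  simp [aff_apply, LinearEquiv.mul_apply, add_assoc]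

theorem aff_one : aff (1 : V ≃ₗ[F] V) 0 = 1 := by ext x; simp [aff_apply]

theorem aff_inj {g h : V ≃ₗ[F] V} {v w : V} (e : aff g v = aff h w) : g = h ∧ v = w := by
  have h0 : v = w := by simpa [aff_apply] using congrArg (fun p : Equiv.Perm V => p 0) e
  exact ⟨LinearEquiv.ext fun x => by simpa [aff_apply, h0] using congrArg (fun p : Equiv.Perm V => p x) e, h0⟩

theorem aff_pow (g : V ≃ₗ[F] V) (v : V) : ∀ k : ℕ, aff g v ^ k = aff (g ^ k) (∑ i ∈ Finset.range k, (g ^ i) v)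
  | 0 => by simp [aff_one]
  | k + 1 => by rw [pow_succ, aff_pow g v k, aff_mul, ← pow_succ, Finset.sum_range_succ, add_comm ((g ^ k) v)]

theorem orderOf_dvd_orderOf_aff (g : V ≃ₗ[F] V) (v : V) : orderOf g ∣ orderOf (aff g v) := by
  refine orderOf_dvd_of_pow_eq_one ?_
  have h := pow_orderOf_eq_one (aff g v)
  rw [aff_pow, ← aff_one (F := F)] at h
  exact (aff_inj h).1

/-- The dimension of the image of `g - 1`. -/
noncomputable def rk (g : V ≃ₗ[F] V) : ℕ := finrank F (LinearMap.range (g.toLinearMap - LinearMap.id))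

theorem rk_one : rk (1 : V ≃ₗ[F] V) = 0 := by
  have h : LinearMap.range ((1 : V ≃ₗ[F] V).toLinearMap - LinearMap.id) = ⊥ :=
    LinearMap.range_eq_bot.2 (LinearMap.ext fun x => by simp)
  rw [rk, h, finrank_bot]

/-- Conjugation by a linear equivalence. -/
def conj (e : W ≃ₗ[F] V) (g : V ≃ₗ[F] V) : W ≃ₗ[F] W := e.trans (g.trans e.symm)

theorem conj_mul (e : W ≃ₗ[F] V) (g h : V ≃ₗ[F] V) : conj e (g * h) = conj e g * conj e h := by
  ext x; simp [conj, LinearEquiv.mul_apply]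

theorem conj_one (e : W ≃ₗ[F] V) : conj e (1 : V ≃ₗ[F] V) = 1 := by ext x; simp [conj]

theorem orderOf_conj (e : W ≃ₗ[F] V) (g : V ≃ₗ[F] V) : orderOf (conj e g) = orderOf g :=
  orderOf_injective ({ toFun := conj e, map_one' := conj_one e, map_mul' := conj_mul e } : (V ≃ₗ[F] V) →* _)
    (fun g h hgh => LinearEquiv.ext fun x => by simpa [conj] using LinearEquiv.congr_fun hgh (e.symm x)) g

theorem orderOf_aff_conj (e : W ≃ₗ[F] V) (g : V ≃ₗ[F] V) (v : V) :
    orderOf (aff (conj e g) (e.symm v)) = orderOf (aff g v) := by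
  rw [← MulEquiv.orderOf_eq (e.toEquiv.symm.permCongrHom) (aff g v)]
  congr 1
  ext x
  simp [aff_apply, conj, Equiv.permCongrHom]

theorem rk_conj (e : W ≃ₗ[F] V) (g : V ≃ₗ[F] V) : rk (conj e g) = rk g := by
  have : (conj e g).toLinearMap - LinearMap.id
      = (e.symm.toLinearMap ∘ₗ (g.toLinearMap - LinearMap.id)) ∘ₗ e.toLinearMap :=
    LinearMap.ext fun x => by simp [conj]
  rw [rk, this, LinearMap.range_comp_of_range_eq_top _ (LinearEquiv.range e), LinearMap.range_comp,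
    LinearEquiv.finrank_map_eq, rk]

theorem orderOf_aff_prod (g : V ≃ₗ[F] V) (v : V) (t : W ≃ₗ[F] W) (w : W) :
    orderOf (aff (g.prodCongr t) (v, w)) = Nat.lcm (orderOf (aff g v)) (orderOf (aff t w)) := by
  let φ : Equiv.Perm V × Equiv.Perm W →* Equiv.Perm (V × W) :=
    { toFun := fun p => Equiv.prodCongr p.1 p.2
      map_one' := Equiv.ext fun x => rfl
      map_mul' := fun p r => Equiv.ext fun x => rfl }
  have hφ : Function.Injective φ := by
    intro p r hpr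
    refine Prod.ext (Equiv.ext fun x => ?_) (Equiv.ext fun y => ?_)
    · exact congrArg (fun f : Equiv.Perm (V × W) => (f (x, 0)).1) hpr
    · exact congrArg (fun f : Equiv.Perm (V × W) => (f (0, y)).2) hpr
  rw [show aff (g.prodCongr t) (v, w) = φ (aff g v, aff t w) from Equiv.ext fun x => rfl,
    orderOf_injective φ hφ, Prod.orderOf]

theorem orderOf_prodCongr_dvd (g : V ≃ₗ[F] V) (t : W ≃ₗ[F] W) :
    orderOf (g.prodCongr t) ∣ Nat.lcm (orderOf g) (orderOf t) := by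
  let φ : (V ≃ₗ[F] V) × (W ≃ₗ[F] W) →* ((V × W) ≃ₗ[F] V × W) :=
    { toFun := fun p => p.1.prodCongr p.2
      map_one' := LinearEquiv.ext fun x => rfl
      map_mul' := fun p r => LinearEquiv.ext fun x => rfl }
  exact (Prod.orderOf (g, t)) ▸ orderOf_map_dvd φ (g, t)

theorem rk_prod_one (g : V ≃ₗ[F] V) : rk (g.prodCongr (1 : W ≃ₗ[F] W)) = rk g := by
  have : (g.prodCongr (1 : W ≃ₗ[F] W)).toLinearMap - LinearMap.id
      = (LinearMap.inl F V W ∘ₗ (g.toLinearMap - LinearMap.id)) ∘ₗ LinearMap.fst F V W :=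
    LinearMap.ext fun x => Prod.ext (by simp) (by simp)
  rw [rk, this, LinearMap.range_comp_of_range_eq_top _ (LinearMap.range_eq_top.2 Prod.fst_surjective),
    LinearMap.range_comp, (Submodule.equivMapOfInjective _ LinearMap.inl_injective _).symm.finrank_eq, rk]

theorem rk_one_prod (t : W ≃ₗ[F] W) : rk ((1 : V ≃ₗ[F] V).prodCongr t) = rk t := by
  have : ((1 : V ≃ₗ[F] V).prodCongr t).toLinearMap - LinearMap.id
      = (LinearMap.inr F V W ∘ₗ (t.toLinearMap - LinearMap.id)) ∘ₗ LinearMap.snd F V W :=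
    LinearMap.ext fun x => Prod.ext (by simp) (by simp)
  rw [rk, this, LinearMap.range_comp_of_range_eq_top _ (LinearMap.range_eq_top.2 Prod.snd_surjective),
    LinearMap.range_comp, (Submodule.equivMapOfInjective _ LinearMap.inr_injective _).symm.finrank_eq, rk]

/-! ### The affine group -/

/-- The maps `x ↦ g x + v`, `g ∈ L`. -/
def affGrp (L : Subgroup (V ≃ₗ[F] V)) : Subgroup (Equiv.Perm V) where
  carrier := {p | ∃ g ∈ L, ∃ v, p = aff g v}
  one_mem' := ⟨1, L.one_mem, 0, aff_one.symm⟩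
  mul_mem' := by
    rintro _ _ ⟨g, hg, v, rfl⟩ ⟨h, hh, w, rfl⟩
    exact ⟨_, L.mul_mem hg hh, _, aff_mul g h v w⟩
  inv_mem' := by
    rintro _ ⟨g, hg, v, rfl⟩
    refine ⟨g⁻¹, L.inv_mem hg, -(g⁻¹ v), inv_eq_of_mul_eq_one_right ?_⟩
    rw [aff_mul, mul_inv_cancel, map_neg]
    simp [← LinearEquiv.mul_apply, aff_one]

theorem aff_mem {L : Subgroup (V ≃ₗ[F] V)} {g : V ≃ₗ[F] V} (hg : g ∈ L) (v : V) : aff g v ∈ affGrp L :=
  ⟨g, hg, v, rfl⟩

/-- The translations. -/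
def transl (L : Subgroup (V ≃ₗ[F] V)) : Subgroup (affGrp L) where
  carrier := {p | ∃ v, (p : Equiv.Perm V) = aff (1 : V ≃ₗ[F] V) v}
  one_mem' := ⟨0, aff_one.symm⟩
  mul_mem' := by
    rintro p r ⟨v, hv⟩ ⟨w, hw⟩
    exact ⟨w + v, by rw [Subgroup.coe_mul, hv, hw, aff_mul, one_mul]; simp⟩
  inv_mem' := by
    rintro p ⟨v, hv⟩
    refine ⟨-v, ?_⟩
    rw [Subgroup.coe_inv, hv]
    refine inv_eq_of_mul_eq_one_right ?_
    rw [aff_mul, one_mul]
    simp [aff_one]

theorem transl_normal (L : Subgroup (V ≃ₗ[F] V)) : (transl L).Normal := by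
  refine ⟨fun p ⟨v, hv⟩ r => ?_⟩
  obtain ⟨g, -, w, hr⟩ := r.2
  refine ⟨g v, ?_⟩
  rw [Subgroup.coe_mul, Subgroup.coe_mul, Subgroup.coe_inv, hv, hr, mul_inv_eq_iff_eq_mul, aff_mul, aff_mul, one_mul,
    mul_one]
  simp [add_comm]

theorem transl_sq [CharP F 2] (L : Subgroup (V ≃ₗ[F] V)) : ∀ p ∈ transl L, p ^ 2 = 1 := by
  rintro p ⟨v, hv⟩
  refine Subtype.ext ?_
  rw [SubgroupClass.coe_pow, hv, sq, aff_mul, one_mul]
  have : v + v = 0 := by rw [← two_smul F v, CharTwo.two_eq_zero, zero_smul]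
  simp [this, aff_one]

theorem transl_ne_bot [Nontrivial V] (L : Subgroup (V ≃ₗ[F] V)) : transl L ≠ ⊥ := by
  obtain ⟨v, hv⟩ := exists_ne (0 : V)
  intro h
  have h1 : (⟨aff (1 : V ≃ₗ[F] V) v, aff_mem L.one_mem v⟩ : affGrp L) ∈ transl L := ⟨v, rfl⟩
  rw [h, Subgroup.mem_bot] at h1
  exact hv (aff_inj ((congrArg Subtype.val h1).trans aff_one.symm)).2

/-! ### Odd elements -/

/-- An affine isometry of order a multiple of `N` whose linear part has odd order. -/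
def OddHas (Q : V → F) (N : ℕ) : Prop :=
  ∃ (g : V ≃ₗ[F] V) (v : V), (∀ x, Q (g x) = Q x) ∧ Odd (orderOf g) ∧ N ∣ orderOf (aff g v)

/-- An affine isometry of order a multiple of `N` with linear part of even residue. -/
def AffHas (Q : V → F) (N : ℕ) : Prop :=
  ∃ (g : V ≃ₗ[F] V) (v : V), (∀ x, Q (g x) = Q x) ∧ Even (rk g) ∧ N ∣ orderOf (aff g v)

theorem OddHas.mono {Q : V → F} {N M : ℕ} (h : OddHas Q N) (hM : M ∣ N) : OddHas Q M := by
  obtain ⟨g, v, h1, h2, h3⟩ := h; exact ⟨g, v, h1, h2, hM.trans h3⟩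

theorem AffHas.mono {Q : V → F} {N M : ℕ} (h : AffHas Q N) (hM : M ∣ N) : AffHas Q M := by
  obtain ⟨g, v, h1, h2, h3⟩ := h; exact ⟨g, v, h1, h2, hM.trans h3⟩

theorem iso_conj {Q : V → F} {Q' : W → F} (e : W ≃ₗ[F] V) (he : ∀ w, Q (e w) = Q' w) {g : V ≃ₗ[F] V}
    (hg : ∀ x, Q (g x) = Q x) : ∀ w, Q' (conj e g w) = Q' w :=
  fun w => by rw [← he, ← he w]; simp [conj, hg]

theorem OddHas.congr {Q : V → F} {Q' : W → F} {N : ℕ} (h : OddHas Q N) (e : W ≃ₗ[F] V)
    (he : ∀ w, Q (e w) = Q' w) : OddHas Q' N := by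
  obtain ⟨g, v, hg, ho, hN⟩ := h
  exact ⟨conj e g, e.symm v, iso_conj e he hg, by rwa [orderOf_conj], by rwa [orderOf_aff_conj]⟩

theorem AffHas.congr {Q : V → F} {Q' : W → F} {N : ℕ} (h : AffHas Q N) (e : W ≃ₗ[F] V)
    (he : ∀ w, Q (e w) = Q' w) : AffHas Q' N := by
  obtain ⟨g, v, hg, ho, hN⟩ := h
  exact ⟨conj e g, e.symm v, iso_conj e he hg, by rwa [rk_conj], by rwa [orderOf_aff_conj]⟩

theorem OddHas.prod {Q : V → F} {Q' : W → F} {N M : ℕ} (h : OddHas Q N) (h' : OddHas Q' M) :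
    OddHas (fun p : V × W => Q p.1 + Q' p.2) (Nat.lcm N M) := by
  obtain ⟨g, v, hg, ho, hN⟩ := h
  obtain ⟨t, w, ht, ho', hM⟩ := h'
  refine ⟨g.prodCongr t, (v, w), fun p => by simp [hg, ht], ?_, ?_⟩
  · exact ((ho.mul ho').of_dvd_nat (Nat.lcm_dvd_mul _ _)).of_dvd_nat (orderOf_prodCongr_dvd g t)
  · rw [orderOf_aff_prod]
    exact Nat.lcm_dvd (hN.trans (Nat.dvd_lcm_left _ _)) (hM.trans (Nat.dvd_lcm_right _ _))

theorem oddHas_of_has [Finite V] {Q : V → F} {N : ℕ} (hN : Odd N) (h : Has Q N) : OddHas Q N := by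
  obtain ⟨g, hg, hd⟩ := h
  haveI : Finite (V ≃ₗ[F] V) := Finite.of_injective _ DFunLike.coe_injective
  refine ⟨g ^ (orderOf g / N), 0, ?_, ?_, ?_⟩
  · have key : ∀ (k : ℕ) x, Q ((g ^ k) x) = Q x := by
      intro k
      induction k with
      | zero => simp
      | succ k ih => intro x; rw [pow_succ', LinearEquiv.mul_apply, hg, ih]
    exact key _
  · rwa [orderOf_pow_orderOf_div (orderOf_pos g).ne' hd]
  · conv_lhs => rw [← orderOf_pow_orderOf_div (orderOf_pos g).ne' hd]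
    exact orderOf_dvd_orderOf_aff _ _

/-- The identity with a translation. -/
theorem oddHas_two [CharP F 2] [Nontrivial V] (Q : V → F) : OddHas Q 2 := by
  obtain ⟨v, hv⟩ := exists_ne (0 : V)
  refine ⟨1, v, fun x => rfl, by simp, dvd_of_eq (orderOf_eq_prime (hp := ⟨Nat.prime_two⟩) ?_ ?_).symm⟩
  · rw [sq, aff_mul, one_mul]
    have : v + v = 0 := by rw [← two_smul F v, CharTwo.two_eq_zero, zero_smul]
    simp [this, aff_one]
  · exact fun h => hv (aff_inj (h.trans aff_one.symm)).2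

theorem oddHas_glue {a b : F} {m l N M : ℕ} (h : OddHas (Forms.qfPlus m F) N)
    (h' : OddHas (Forms.qfMinus l F a b) M) : OddHas (Forms.qfMinus (m + l) F a b) (Nat.lcm N M) :=
  (h.prod h').congr (glueEquiv F m l) glueEquiv_form

end Cfsg.Agent.SpecSpEight

namespace Cfsg.Agent.SpecSpEight

open Module

variable {F : Type*} [Field F] {ι : Type} [Fintype ι] [DecidableEq ι] {Q : QuadraticForm F (ι → F)}

theorem exists_isoGrp (g : (ι → F) ≃ₗ[F] (ι → F)) (hg : ∀ x, Q (g x) = Q x) :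
    ∃ x : Orth.IsoGrp Q, Orth.ap x = g.toLinearMap :=
  ⟨(Forms.isometryGroupEquiv ⇑Q).symm ⟨g, hg⟩, LinearMap.ext fun v => by
    rw [Orth.ap_apply, ← Forms.isometryGroupEquiv_apply, MulEquiv.apply_symm_apply]; rfl⟩

theorem dick_eq {g : (ι → F) ≃ₗ[F] (ι → F)} {x : Orth.IsoGrp Q} (hx : Orth.ap x = g.toLinearMap) :
    Orth.dick x = (-1) ^ rk g := by
  rw [Orth.dick, Orth.resSpace, hx, rk]

/-- The isometries with trivial Dickson invariant. -/
def evenGrp (hG : Orth.Good Q) : Subgroup ((ι → F) ≃ₗ[F] (ι → F)) where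
  carrier := {g | (∀ x, Q (g x) = Q x) ∧ Even (rk g)}
  one_mem' := ⟨fun _ => rfl, by simp [rk_one]⟩
  mul_mem' := by
    rintro g h ⟨hg, hg2⟩ ⟨hh, hh2⟩
    refine ⟨fun x => by rw [LinearEquiv.mul_apply, hg, hh], ?_⟩
    obtain ⟨x, hx⟩ := exists_isoGrp g hg
    obtain ⟨y, hy⟩ := exists_isoGrp h hh
    have hxy : Orth.ap (x * y) = (g * h).toLinearMap := LinearMap.ext fun v => by
      rw [Orth.ap_mul, hx, hy]; rfl
    rw [← neg_one_pow_eq_one_iff_even (R := ℤ) (by norm_num), ← dick_eq hxy, Orth.dick_mul hG, dick_eq hx, dick_eq hy,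
      hg2.neg_one_pow, hh2.neg_one_pow, one_mul]
  inv_mem' := by
    rintro g ⟨hg, hg2⟩
    refine ⟨fun v => ?_, ?_⟩
    · conv_lhs => rw [← hg]
      rw [← LinearEquiv.mul_apply, mul_inv_cancel]; rfl
    · obtain ⟨x, hx⟩ := exists_isoGrp g hg
      have hxi : Orth.ap x⁻¹ = (g⁻¹).toLinearMap := LinearMap.ext fun v => Orth.ap_inj x (by
        rw [Orth.ap_ap_inv, hx]; exact (g.apply_symm_apply v).symm)
      have h1 : Orth.dick x⁻¹ * Orth.dick x = 1 := by rw [← Orth.dick_mul hG, inv_mul_cancel, Orth.dick_one]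
      rw [dick_eq hx, hg2.neg_one_pow, mul_one, dick_eq hxi] at h1
      rwa [← neg_one_pow_eq_one_iff_even (R := ℤ) (by norm_num)]

theorem even_of_odd (hG : Orth.Good Q) {g : (ι → F) ≃ₗ[F] (ι → F)} (hg : ∀ x, Q (g x) = Q x)
    (ho : Odd (orderOf g)) : g ∈ evenGrp hG := by
  refine ⟨hg, ?_⟩
  obtain ⟨x, hx⟩ := exists_isoGrp g hg
  have hk : ∀ k, Orth.ap (x ^ k) = (g ^ k).toLinearMap := by
    intro k
    induction k with
    | zero => exact LinearMap.ext fun v => by simp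
    | succ k ih => exact LinearMap.ext fun v => by rw [pow_succ, Orth.ap_mul, ih, hx, pow_succ]; rfl
  have h1 : Orth.dickHom hG x ^ orderOf g = 1 := by
    rw [← map_pow, Orth.dickHom_apply, dick_eq (hk _), pow_orderOf_eq_one, rk_one, pow_zero]
  rw [Orth.dickHom_apply, dick_eq hx] at h1
  rcases Nat.even_or_odd (rk g) with h | h
  · exact h
  · rw [h.neg_one_pow, ho.neg_one_pow] at h1; norm_num at h1

theorem affHas_of_odd (hG : Orth.Good Q) {N : ℕ} (h : OddHas (⇑Q) N) : AffHas (⇑Q) N := by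
  obtain ⟨g, v, hg, ho, hN⟩ := h
  exact ⟨g, v, hg, (even_of_odd hG hg ho).2, hN⟩

variable {V W : Type*} [AddCommGroup V] [Module F V] [AddCommGroup W] [Module F W]

theorem affHas_prod {Q₁ : V → F} {Q₂ : W → F} (hG : Orth.Good Q) (e : (ι → F) ≃ₗ[F] V × W)
    (he : ∀ v, Q₁ (e v).1 + Q₂ (e v).2 = Q v) {N M : ℕ}
    (h : AffHas Q₁ N ∧ OddHas Q₂ M ∨ OddHas Q₁ N ∧ AffHas Q₂ M) : AffHas (⇑Q) (Nat.lcm N M) := by
  have main : ∀ (g : V ≃ₗ[F] V) v (t : W ≃ₗ[F] W) w, (∀ x, Q₁ (g x) = Q₁ x) → (∀ x, Q₂ (t x) = Q₂ x) →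
      (Odd (orderOf g) ∨ Even (rk g)) → (Odd (orderOf t) ∨ Even (rk t)) →
      N ∣ orderOf (aff g v) → M ∣ orderOf (aff t w) → AffHas (⇑Q) (Nat.lcm N M) := by
    intro g v t w hg ht hg2 ht2 hN hM
    have hQ := fun (u : (V × W) ≃ₗ[F] V × W) (hu : ∀ p, Q₁ (u p).1 + Q₂ (u p).2 = Q₁ p.1 + Q₂ p.2) =>
      iso_conj (Q := fun p : V × W => Q₁ p.1 + Q₂ p.2) (Q' := ⇑Q) e he hu
    have h1 : conj e (g.prodCongr (1 : W ≃ₗ[F] W)) ∈ evenGrp hG := by
      have hi := hQ (g.prodCongr 1) fun p => by simp [hg]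
      rcases hg2 with h | h
      · refine even_of_odd hG hi (Odd.of_dvd_nat h ?_)
        rw [orderOf_conj]
        exact (orderOf_prodCongr_dvd g 1).trans (by simp)
      · exact ⟨hi, by rwa [rk_conj, rk_prod_one]⟩
    have h2 : conj e ((1 : V ≃ₗ[F] V).prodCongr t) ∈ evenGrp hG := by
      have hi := hQ ((1 : V ≃ₗ[F] V).prodCongr t) fun p => by simp [ht]
      rcases ht2 with h | h
      · refine even_of_odd hG hi (Odd.of_dvd_nat h ?_)
        rw [orderOf_conj]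
        exact (orderOf_prodCongr_dvd 1 t).trans (by simp)
      · exact ⟨hi, by rwa [rk_conj, rk_one_prod]⟩
    have h3 := (evenGrp hG).mul_mem h1 h2
    rw [← conj_mul, show g.prodCongr (1 : W ≃ₗ[F] W) * (1 : V ≃ₗ[F] V).prodCongr t = g.prodCongr t from
      LinearEquiv.ext fun x => rfl] at h3
    refine ⟨_, e.symm (v, w), h3.1, h3.2, ?_⟩
    rw [orderOf_aff_conj, orderOf_aff_prod]
    exact Nat.lcm_dvd (hN.trans (Nat.dvd_lcm_left _ _)) (hM.trans (Nat.dvd_lcm_right _ _))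
  rcases h with ⟨⟨g, v, hg, hg2, hN⟩, ⟨t, w, ht, ht2, hM⟩⟩ | ⟨⟨g, v, hg, hg2, hN⟩, ⟨t, w, ht, ht2, hM⟩⟩
  · exact main g v t w hg ht (Or.inr hg2) (Or.inl ht2) hN hM
  · exact main g v t w hg ht (Or.inl hg2) (Or.inr ht2) hN hM

end Cfsg.Agent.SpecSpEight
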