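/-
Orders of the elements of `Sp₈(q)`, `q` even, divide one of twelve numbers.
* `bound : List (List Atom × ℕ)` : the twelve numbers as sets of torus factors and a power of two
* `val q N` : the number of an entry
* `exists_bound` : some entry kills a given symplectic matrix
-/
import Cfsg.Agent.Lib.SelfDualOrder.Main

set_option autoImplicit false

namespace Cfsg.Agent.SpecSpEight

open Polynomial Matrix

/-- `(j, true)` stands for `q ^ j + 1`, `(j, false)` for `q ^ j - 1`. -/
abbrev Atom := ℕ × Bool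

/-- The number of an atom. -/
def atomVal (q : ℕ) (c : Atom) : ℕ := if c.2 then q ^ c.1 + 1 else q ^ c.1 - 1

/-- The torus parts, and exponents of two. -/
def bound : List (List Atom × ℕ) :=
  [([(4, true)], 0), ([(4, false), (2, false), (2, true), (1, false), (1, true)], 0),
   ([(3, true), (1, true), (1, false)], 0), ([(3, false), (1, true), (1, false)], 0),
   ([(3, true), (1, true)], 1), ([(3, false), (1, false)], 1),
   ([(2, true), (1, false)], 1), ([(2, true), (1, true)], 1),
   ([(2, true)], 2), ([(2, false), (1, false), (1, true)], 2), ([(1, true)], 3), ([(1, false)], 3)]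

/-- All class lists of weight at most `r`: an entry is an atom and a multiplicity. -/
def allLists : ℕ → ℕ → List (List (Atom × ℕ))
  | 0, _ => [[]]
  | fuel + 1, r => [] :: (List.range r).flatMap fun j => (List.range r).flatMap fun m =>
      if (j + 1) * (m + 1) ≤ r then
        (allLists fuel (r - (j + 1) * (m + 1))).flatMap fun l =>
          [((j + 1, true), m + 1) :: l, ((j + 1, false), m + 1) :: l]
      else []

/-- The weight of a class list. -/
def wt (l : List (Atom × ℕ)) : ℕ := (l.map fun c => c.1.1 * c.2).sum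

theorem mem_allLists : ∀ (fuel r : ℕ) (l : List (Atom × ℕ)), r ≤ fuel → wt l ≤ r →
    (∀ c ∈ l, 1 ≤ c.1.1 ∧ 1 ≤ c.2) → l ∈ allLists fuel r := by
  intro fuel
  induction fuel with
  | zero =>
    intro r l hr hw hl
    rcases l with _ | ⟨c, l⟩
    · simp [allLists]
    · obtain ⟨h1, h2⟩ := hl c List.mem_cons_self
      have := Nat.mul_pos h1 h2
      simp only [wt, List.map_cons, List.sum_cons] at hw
      omega
  | succ fuel ih =>
    intro r l hr hw hl
    rcases l with _ | ⟨⟨⟨j, s⟩, m⟩, l⟩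
    · simp [allLists]
    · obtain ⟨h1, h2⟩ := hl _ List.mem_cons_self
      simp only [wt, List.map_cons, List.sum_cons] at hw
      simp only at h1 h2
      obtain ⟨j, rfl⟩ := Nat.exists_eq_add_of_le' h1
      obtain ⟨m, rfl⟩ := Nat.exists_eq_add_of_le' h2
      have hpos : 1 ≤ (j + 1) * (m + 1) := Nat.mul_pos (by omega) (by omega)
      have hj : j < r := by have := Nat.le_mul_of_pos_right (j + 1) (show 0 < m + 1 by omega); omega
      have hm : m < r := by have := Nat.le_mul_of_pos_left (m + 1) (show 0 < j + 1 by omega); omega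
      have hrec := ih (r - (j + 1) * (m + 1)) l (by omega) (by simp only [wt]; omega)
        fun c hc => hl c (List.mem_cons_of_mem _ hc)
      rw [allLists]
      refine List.mem_cons_of_mem _ (List.mem_flatMap.2 ⟨j, List.mem_range.2 hj,
        List.mem_flatMap.2 ⟨m, List.mem_range.2 hm, ?_⟩⟩)
      rw [if_pos (by omega)]
      refine List.mem_flatMap.2 ⟨l, hrec, ?_⟩
      cases s <;> simp

/-- Some entry covers a class list. -/
theorem cover : ∀ l ∈ allLists 4 4, ∃ N ∈ bound, (∀ c ∈ l, c.1 ∈ N.1 ∧ c.2 ≤ 2 ^ N.2) ∧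
    8 - 2 * wt l ≤ 2 ^ N.2 := by
  decide +kernel

/-- The number of an entry. -/
def val (q : ℕ) (N : List Atom × ℕ) : ℕ := (N.1.map (atomVal q)).foldr Nat.lcm 1 * 2 ^ N.2

theorem atom_dvd_lcm {q : ℕ} {c : Atom} : ∀ {L : List Atom}, c ∈ L → atomVal q c ∣ (L.map (atomVal q)).foldr Nat.lcm 1
  | [], h => absurd h List.not_mem_nil
  | d :: L, h => by
    rw [List.map_cons, List.foldr_cons]
    rcases List.mem_cons.1 h with rfl | h
    · exact Nat.dvd_lcm_left _ _
    · exact (atom_dvd_lcm h).trans (Nat.dvd_lcm_right _ _)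

variable {F : Type*} [Field F] [Fintype F] [CharP F 2] {ι : Type*} [Fintype ι] [DecidableEq ι]

/-- The classes of the roots. -/
theorem exists_classes {K : Type*} [Field K] [DecidableEq K] {q : ℕ} (cnt : K → ℕ)
    (hinj : Function.Injective fun x : K => x ^ q) (hper : ∀ x : K, ∃ k, 0 < k ∧ x ^ q ^ k = x)
    (hinvc : ∀ x, cnt x⁻¹ = cnt x) (hfrc : ∀ x, cnt (x ^ q) = cnt x) :
    ∀ (n : ℕ) (S : Finset K), S.card = n → (∀ x ∈ S, x⁻¹ ∈ S) → (∀ x ∈ S, x ^ q ∈ S) →
      (∀ x ∈ S, x ≠ 0 ∧ x⁻¹ ≠ x ∧ 1 ≤ cnt x) →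
      ∃ l : List (Atom × ℕ), (∀ c ∈ l, 1 ≤ c.1.1 ∧ 1 ≤ c.2) ∧ 2 * wt l ≤ ∑ x ∈ S, cnt x ∧
        ∀ x ∈ S, ∃ c ∈ l, cnt x ≤ c.2 ∧ x ^ atomVal q c.1 = 1 := by
  intro n
  induction n using Nat.strong_induction_on with
  | _ n ih =>
    intro S hn hinv hfr hne
    rcases S.eq_empty_or_nonempty with rfl | ⟨α, hα⟩
    · exact ⟨[], by simp, by simp [wt], by simp⟩
    obtain ⟨k, hk, hkα⟩ := hper α
    classical
    -- restrict to the roots of the multiplicity of `α`
    set S₁ := S.filter fun x => cnt x = cnt α with hS₁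
    obtain ⟨C, j, hj, hCS, hαC, hCcard, hCinv, hCfr, hC⟩ := SelfDualOrder.exists_class (S := S₁) (q := q)
      (fun x hx => Finset.mem_filter.2 ⟨hinv x (Finset.mem_filter.1 hx).1,
        (hinvc x).trans (Finset.mem_filter.1 hx).2⟩)
      (fun x hx => Finset.mem_filter.2 ⟨hfr x (Finset.mem_filter.1 hx).1,
        (hfrc x).trans (Finset.mem_filter.1 hx).2⟩)
      hinj (Finset.mem_filter.2 ⟨hα, rfl⟩) (hne α hα).1 (hne α hα).2.1 hk hkα
    have hCS' : C ⊆ S := hCS.trans (Finset.filter_subset _ _)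
    have hsub : (S \ C).card + C.card = S.card := Finset.card_sdiff_add_card_eq_card hCS'
    have hfr' : ∀ x ∈ S \ C, x ^ q ∈ S \ C := by
      intro x hx
      rw [Finset.mem_sdiff] at hx ⊢
      refine ⟨hfr x hx.1, fun h => ?_⟩
      have himg : C.image (fun y => y ^ q) = C := Finset.eq_of_subset_of_card_le
        (fun y hy => by obtain ⟨z, hz, rfl⟩ := Finset.mem_image.1 hy; exact hCfr z hz)
        (by rw [Finset.card_image_of_injective _ hinj])
      rw [← himg] at h
      obtain ⟨z, hz, hzx⟩ := Finset.mem_image.1 h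
      exact hx.2 (hinj hzx ▸ hz)
    have hinv' : ∀ x ∈ S \ C, x⁻¹ ∈ S \ C := by
      intro x hx
      rw [Finset.mem_sdiff] at hx ⊢
      exact ⟨hinv x hx.1, fun h => hx.2 (by simpa using hCinv _ h)⟩
    obtain ⟨l, hl, hw, hlx⟩ := ih (S \ C).card (by omega) (S \ C) rfl hinv' hfr'
      (fun x hx => hne x (Finset.mem_sdiff.1 hx).1)
    have hsum : ∑ x ∈ S, cnt x = ∑ x ∈ S \ C, cnt x + 2 * j * cnt α := by
      rw [← Finset.sum_sdiff hCS', Finset.sum_congr rfl fun x hx => (Finset.mem_filter.1 (hCS hx)).2,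
        Finset.sum_const, hCcard, smul_eq_mul]
    obtain ⟨sg, hsg⟩ : ∃ sg : Bool, ∀ x ∈ C, x ^ atomVal q (j, sg) = 1 := by
      rcases hC with h | h
      · exact ⟨true, h⟩
      · exact ⟨false, h⟩
    refine ⟨((j, sg), cnt α) :: l, ?_, ?_, fun x hx => ?_⟩
    · intro c hc
      rcases List.mem_cons.1 hc with rfl | hc
      · exact ⟨hj, (hne α hα).2.2⟩
      · exact hl c hc
    · simp only [wt, List.map_cons, List.sum_cons] at hw ⊢
      rw [hsum]
      linarith
    · by_cases hxC : x ∈ C
      · exact ⟨_, List.mem_cons_self, (Finset.mem_filter.1 (hCS hxC)).2.le, hsg x hxC⟩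
      · obtain ⟨c, hc, hc'⟩ := hlx x (Finset.mem_sdiff.2 ⟨hx, hxC⟩)
        exact ⟨c, List.mem_cons_of_mem _ hc, hc'⟩

/-- The characteristic polynomial of an `8 × 8` matrix whose inverse has the same one. -/
theorem exists_charpoly_dvd (M : Matrix ι ι F) (hu : IsUnit M) (hsd : M⁻¹.charpoly = M.charpoly)
    (hι : Fintype.card ι = 8) : ∃ N ∈ bound, M.charpoly ∣
      (X ^ (N.1.map (atomVal (Fintype.card F))).foldr Nat.lcm 1 - 1) ^ 2 ^ N.2 := by
  classical
  set q := Fintype.card F with hqdef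
  haveI := Fact.mk Nat.prime_two
  haveI : Nonempty ι := Fintype.card_pos_iff.1 (by omega)
  haveI : CharP (Matrix ι ι F) 2 := inferInstance
  set χ := M.charpoly with hχ
  let K := χ.SplittingField
  let φ : F →+* K := algebraMap F K
  haveI : Finite K := inferInstance
  letI := Fintype.ofFinite K
  haveI : CharP K 2 := charP_of_injective_ringHom φ.injective 2
  set χK := χ.map φ with hχK
  have hmon : χK.Monic := (M.charpoly_monic).map _
  have hspl : χK.Splits := Polynomial.SplittingField.splits χ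
  set s := χK.roots with hs
  have hscard : Multiset.card s = Fintype.card ι := by
    rw [hs, ← hspl.natDegree_eq_card_roots, hχK, natDegree_map, hχ, charpoly_natDegree_eq_dim]
  have hdet : M.det ≠ 0 := ((Matrix.isUnit_iff_isUnit_det M).1 hu).ne_zero
  have h0s : (0 : K) ∉ s := by
    intro h
    rw [hs, mem_roots hmon.ne_zero, IsRoot.def, hχK, eval_zero_map] at h
    have h1 : χ.eval 0 = 0 := φ.injective (h.trans (map_zero φ).symm)
    rw [← coeff_zero_eq_eval_zero] at h1
    apply hdet
    rw [Matrix.det_eq_sign_charpoly_coeff, ← hχ, h1, mul_zero]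
  have hprod : χK = (s.map fun a => X - C a).prod := hspl.eq_prod_roots_of_monic hmon
  have hsinv : s.map (·⁻¹) = s := by
    obtain ⟨c, hc, hrev⟩ := SelfDualOrder.reverse_prod s h0s
    have h1 : χ = (-1) ^ Fintype.card ι * C (Ring.inverse M.det) * χ.reverse := by
      have h := Matrix.charpoly_inv M hu
      rwa [hsd, ← Matrix.reverse_charpoly] at h
    have h2 : χK = C ((-1) ^ Fintype.card ι * φ (Ring.inverse M.det)) * χK.reverse := by
      have e : (χ.reverse).map φ = χK.reverse := by
        rw [hχK, reverse, reverse, natDegree_map, reflect_map]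
      have e2 := congrArg (Polynomial.map φ) h1
      rw [Polynomial.map_mul, Polynomial.map_mul, Polynomial.map_pow, Polynomial.map_neg, Polynomial.map_one, map_C, e,
        ← hχK] at e2
      refine e2.trans ?_
      simp [C_mul, C_pow]
    have hne : ((-1) ^ Fintype.card ι * φ (Ring.inverse M.det) : K) * c ≠ 0 := by
      refine mul_ne_zero (mul_ne_zero (pow_ne_zero _ (neg_ne_zero.2 one_ne_zero)) ?_) hc
      rw [_root_.map_ne_zero, Ring.inverse_eq_inv']
      exact inv_ne_zero hdet
    conv_rhs => rw [hs, h2]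
    rw [hprod, hrev, ← mul_assoc, ← C_mul, roots_C_mul _ hne, roots_multiset_prod_X_sub_C]
  have hcount : ∀ x, s.count x⁻¹ = s.count x := fun x => by
    conv_lhs => rw [← hsinv]
    exact Multiset.count_map_eq_count' _ _ inv_injective x
  let ψ : K →+* K := (FiniteField.frobeniusAlgHom F K : K →+* K)
  have hψ : ∀ x, ψ x = x ^ q := fun x => rfl
  have hfix : χK.map ψ = χK := by
    rw [hχK, Polynomial.map_map, show ψ.comp φ = φ from RingHom.ext fun a => (FiniteField.frobeniusAlgHom F K).commutes a]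
  have hfrob : ∀ x, s.count (x ^ q) = s.count x := fun x => by
    rw [hs, count_roots, count_roots]
    conv_lhs => rw [← hfix, ← hψ]
    exact (eq_rootMultiplicity_map ψ.injective x).symm
  have hfinj : Function.Injective fun x : K => x ^ q := fun x y h => ψ.injective h
  have hper : ∀ x : K, ∃ k, 0 < k ∧ x ^ q ^ k = x := fun x => ⟨Module.finrank F K, Module.finrank_pos, by
    rw [hqdef, ← Module.card_eq_pow_finrank, FiniteField.pow_card]⟩
  set S := s.toFinset.filter fun x => x ≠ 1 with hS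
  have hSmem : ∀ x, x ∈ S ↔ 1 ≤ s.count x ∧ x ≠ 1 := fun x => by
    rw [hS, Finset.mem_filter, Multiset.mem_toFinset, ← Multiset.one_le_count_iff_mem]
  obtain ⟨l, hl, hw, hlx⟩ := exists_classes (q := q) (fun x => s.count x) hfinj hper hcount hfrob S.card S rfl
    (fun x hx => by
      rw [hSmem] at hx ⊢
      exact ⟨(hcount x).symm ▸ hx.1, fun h => hx.2 (inv_eq_one.1 h)⟩)
    (fun x hx => by
      rw [hSmem] at hx ⊢
      exact ⟨(hfrob x).symm ▸ hx.1, fun h => hx.2 (hfinj (h.trans (one_pow q).symm))⟩)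
    (fun x hx => by
      rw [hSmem] at hx
      have hx0 : x ≠ 0 := fun e => h0s (e ▸ Multiset.one_le_count_iff_mem.1 hx.1)
      refine ⟨hx0, fun h => hx.2 ?_, hx.1⟩
      have h2 : x * x = 1 := by nth_rewrite 1 [← h]; exact inv_mul_cancel₀ hx0
      rcases mul_self_eq_one_iff.1 h2 with h3 | h3
      · exact h3
      · rw [h3, CharTwo.neg_eq])
  have h1 : (∑ x ∈ S, s.count x) + s.count 1 ≤ 8 := by
    rw [← hι, ← hscard, ← Multiset.toFinset_sum_count_eq s, add_comm]
    have h1S : (1 : K) ∉ S := fun h => ((hSmem 1).1 h).2 rfl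
    rw [← Finset.sum_insert (f := fun x => s.count x) h1S]
    refine Finset.sum_le_sum_of_ne_zero fun x _ hx => Multiset.mem_toFinset.2 (Multiset.count_ne_zero.1 hx)
  obtain ⟨N, hN, hcov, hN8⟩ := cover l (mem_allLists 4 4 l le_rfl (by omega) hl)
  refine ⟨N, hN, ?_⟩
  set r := (N.1.map (atomVal q)).foldr Nat.lcm 1 with hr
  have hroot : ∀ x ∈ s, x ^ r = 1 ∧ s.count x ≤ 2 ^ N.2 := by
    intro x hx
    by_cases hx1 : x = 1
    · subst hx1
      exact ⟨one_pow _, by omega⟩
    · obtain ⟨c, hc, hcx, hcr⟩ := hlx x ((hSmem x).2 ⟨Multiset.one_le_count_iff_mem.2 hx, hx1⟩)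
      obtain ⟨hcN, hc2⟩ := hcov c hc
      obtain ⟨w, hw'⟩ := atom_dvd_lcm (q := q) hcN
      exact ⟨by rw [hr, hw', pow_mul, hcr, one_pow], hcx.trans hc2⟩
  have hdvd : χ ∣ (X ^ r - 1) ^ 2 ^ N.2 := by
    rw [← map_dvd_map' φ, ← hχK]
    refine hspl.dvd_of_roots_le_roots hmon.ne_zero (Multiset.le_iff_count.2 fun x => ?_)
    by_cases hx : x ∈ s
    · rcases eq_or_ne ((((X : F[X]) ^ r - 1) ^ 2 ^ N.2).map φ) 0 with h0 | h0
      · exfalso
        rw [Polynomial.map_eq_zero, pow_eq_zero_iff (by positivity), sub_eq_zero] at h0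
        have hr1 : r = 0 := by
          have := congrArg natDegree h0
          rwa [natDegree_X_pow, natDegree_one] at this
        exact absurd hr1 (List.foldrRecOn (motive := fun n => n ≠ 0) _ _ one_ne_zero fun b hb a ha => by
          refine Nat.lcm_ne_zero ?_ hb
          obtain ⟨c, hc, rfl⟩ := List.mem_map.1 ha
          have hq2 : 2 ≤ q := Fintype.one_lt_card
          have hj : c.1 ≠ 0 := fun e => absurd hN (by
            intro hN'
            exact (show ∀ N' ∈ bound, ∀ c' ∈ N'.1, c'.1 ≠ 0 by decide) N hN' c hc e)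
          have : 2 ≤ q ^ c.1 := hq2.trans (Nat.le_self_pow hj q)
          unfold atomVal
          split <;> omega)
      · rw [count_roots, count_roots, le_rootMultiplicity_iff h0, Polynomial.map_pow]
        refine (pow_dvd_pow _ ((count_roots χK).symm.le.trans (hroot x hx).2)).trans (pow_dvd_pow_of_dvd ?_ _)
        rw [dvd_iff_isRoot, Polynomial.map_sub, Polynomial.map_pow, map_X, Polynomial.map_one]
        simp [(hroot x hx).1]
    · rw [Multiset.count_eq_zero_of_notMem hx]; exact Nat.zero_le _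
  exact hdvd

/-- Some entry kills an `8 × 8` matrix whose inverse has the same characteristic polynomial. -/
theorem exists_bound (M : Matrix ι ι F) (hu : IsUnit M) (hsd : M⁻¹.charpoly = M.charpoly)
    (hι : Fintype.card ι = 8) : ∃ N ∈ bound, M ^ val (Fintype.card F) N = 1 := by
  haveI := Fact.mk Nat.prime_two
  haveI : Nonempty ι := Fintype.card_pos_iff.1 (by omega)
  haveI : CharP (Matrix ι ι F) 2 := inferInstance
  obtain ⟨N, hN, w, hw'⟩ := exists_charpoly_dvd M hu hsd hι
  refine ⟨N, hN, ?_⟩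
  have h := congrArg (aeval M) hw'
  rw [map_mul, aeval_self_charpoly, zero_mul, map_pow, map_sub, map_pow, aeval_X, map_one,
    sub_pow_char_pow_of_commute (p := 2) _ (Commute.one_right _), one_pow, sub_eq_zero, ← pow_mul] at h
  exact h

/-- Matrices preserving a non-degenerate bilinear form are self-dual. -/
theorem selfdual_of_form {M B : Matrix ι ι F} (hB : B.det ≠ 0) (h : Mᵀ * B * M = B) :
    IsUnit M ∧ M⁻¹.charpoly = M.charpoly := by
  have hM : M.det ≠ 0 := fun e => by
    have := congrArg Matrix.det h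
    rw [det_mul, det_mul, e, mul_zero] at this
    exact hB this.symm
  have hBu : IsUnit B.det := isUnit_iff_ne_zero.2 hB
  refine ⟨(Matrix.isUnit_iff_isUnit_det M).2 (isUnit_iff_ne_zero.2 hM), ?_⟩
  have hinv : M⁻¹ = B⁻¹ * Mᵀ * B := by
    refine Matrix.inv_eq_left_inv ?_
    rw [mul_assoc, mul_assoc, ← mul_assoc Mᵀ, h, Matrix.nonsing_inv_mul B hBu]
  rw [hinv]
  obtain ⟨U, hU⟩ := (Matrix.isUnit_iff_isUnit_det B).2 hBu
  rw [← hU, Matrix.charpoly_units_conj' U, Matrix.charpoly_transpose]

/-- Matrices preserving a non-degenerate bilinear form. -/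
theorem exists_bound_of_form {M B : Matrix ι ι F} (hB : B.det ≠ 0) (h : Mᵀ * B * M = B)
    (hι : Fintype.card ι = 8) : ∃ N ∈ bound, M ^ val (Fintype.card F) N = 1 :=
  exists_bound M (selfdual_of_form hB h).1 (selfdual_of_form hB h).2 hι

end Cfsg.Agent.SpecSpEight
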