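/-
The orders of affine isometries with trivial Dickson invariant in dimension eight.
* `sum_pow_eq_zero` : a geometric sum of an endomorphism with at least two Jordan blocks at one
* `exists_aff_bound` : some entry of `bound` kills an affine isometry
-/
import Cfsg.Agent.Lib.SpecSpEight.Affine
import Cfsg.Agent.Lib.SpecSpEight.Bound

set_option autoImplicit false
set_option linter.unusedSectionVars false

namespace Cfsg.Agent.SpecSpEight

open Module Polynomial

variable {F : Type*} [Field F] {V : Type*} [AddCommGroup V] [Module F V] [FiniteDimensional F V]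

theorem ker_pow_le_pred (n : Module.End F V) {c : ℕ} (h2 : 2 ≤ finrank F (LinearMap.ker n))
    (hc : finrank F (LinearMap.ker (n ^ c)) ≤ c) : LinearMap.ker (n ^ c) ≤ LinearMap.ker (n ^ (c - 1)) := by
  have hmono : ∀ k, LinearMap.ker (n ^ k) ≤ LinearMap.ker (n ^ (k + 1)) := fun k x hx => by
    rw [LinearMap.mem_ker] at hx ⊢
    rw [pow_succ', Module.End.mul_apply, hx, map_zero]
  by_contra h
  have key : ∀ j, j < c → j + 2 ≤ finrank F (LinearMap.ker (n ^ (j + 1))) := by
    intro j
    induction j with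
    | zero => intro _; rw [pow_one]; exact h2
    | succ j ih =>
      intro hj
      have hlt : LinearMap.ker (n ^ (j + 1)) < LinearMap.ker (n ^ (j + 1 + 1)) := by
        refine lt_of_le_of_ne (hmono _) fun e => h ?_
        have e' := Module.End.ker_pow_constant e
        have a1 := e' (c - (j + 1))
        have a2 := e' (c - 1 - (j + 1))
        rw [show j + 1 + (c - (j + 1)) = c by omega] at a1
        rw [show j + 1 + (c - 1 - (j + 1)) = c - 1 by omega] at a2
        rw [← a1, a2]
      have := Submodule.finrank_lt_finrank_of_lt hlt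
      have := ih (by omega)
      omega
  rcases Nat.eq_zero_or_pos c with rfl | hc0
  · exact h le_rfl
  · have := key (c - 1) (by omega)
    rw [show c - 1 + 1 = c by omega] at this
    omega

theorem sum_pow_eq_zero [CharP F 2] (φ : Module.End F V) {r e : ℕ}
    (hdvd : φ.charpoly ∣ (X ^ r - 1) ^ 2 ^ e) (hker : finrank F (LinearMap.ker (φ - 1)) ≠ 1) :
    ∑ i ∈ Finset.range (r * 2 ^ e), φ ^ i = 0 := by
  haveI := Fact.mk Nat.prime_two
  set N := r * 2 ^ e with hN
  set P : F[X] := ∑ i ∈ Finset.range N, X ^ i with hP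
  have hXN : ((X : F[X]) ^ r - 1) ^ 2 ^ e = P * (X - C 1) := by
    rw [sub_pow_char_pow, one_pow, ← pow_mul, C_1, hP, geom_sum_mul]
  rw [hXN] at hdvd
  set χ := φ.charpoly with hχ
  have hmon : χ.Monic := LinearMap.charpoly_monic φ
  obtain ⟨R, hR, hnd⟩ := exists_eq_pow_rootMultiplicity_mul_and_not_dvd χ hmon.ne_zero (1 : F)
  set c := rootMultiplicity (1 : F) χ with hc
  have hne : (X - C (1 : F)) ≠ 0 := X_sub_C_ne_zero 1
  have hcop : IsCoprime (X - C (1 : F)) R := (irreducible_X_sub_C 1).coprime_iff_not_dvd.2 hnd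
  have hdP : (X - C (1 : F)) ^ (c - 1) * R ∣ P := by
    rcases Nat.eq_zero_or_pos c with h0 | h0
    · rw [h0, zero_tsub, pow_zero, one_mul]
      exact hcop.symm.dvd_of_dvd_mul_right ((Dvd.intro_left _ hR.symm).trans hdvd)
    · refine (mul_dvd_mul_iff_right hne).1 ?_
      rw [mul_right_comm, ← pow_succ, show c - 1 + 1 = c by omega, ← hR]
      exact hdvd
  have hsum : ∑ i ∈ Finset.range N, φ ^ i = aeval φ P := by simp [hP]
  suffices h : aeval φ ((X - C (1 : F)) ^ (c - 1) * R) = 0 by
    obtain ⟨w, hw⟩ := hdP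
    rw [hsum, hw, map_mul, h, zero_mul]
  have hφ : aeval φ ((X - C (1 : F)) ^ c * R) = 0 := by rw [← hR]; exact LinearMap.aeval_self_charpoly φ
  rcases Nat.eq_zero_or_pos c with h0 | h0
  · rw [h0] at hφ ⊢
    simpa using hφ
  have hn : aeval φ (X - C (1 : F)) = φ - 1 := by simp
  rw [map_mul, map_pow, hn] at hφ ⊢
  have hbd : ∀ k, finrank F (LinearMap.ker ((φ - 1) ^ k)) ≤ c := by
    intro k
    rw [hc, hχ, ← LinearMap.finrank_maxGenEigenspace_eq]
    refine Submodule.finrank_mono fun x hx => ?_
    rw [Module.End.mem_maxGenEigenspace]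
    exact ⟨k, by simpa using hx⟩
  have h1 : finrank F (LinearMap.ker (φ - 1)) ≠ 0 := by
    intro h
    rw [Submodule.finrank_eq_zero] at h
    have hz : ∀ k, LinearMap.ker ((φ - 1) ^ k) = ⊥ := by
      intro k
      rw [LinearMap.ker_eq_bot]
      induction k with
      | zero => simp [Function.Injective]
      | succ k ih => rw [pow_succ']; exact (LinearMap.ker_eq_bot.1 h).comp ih
    have hfull := LinearMap.finrank_maxGenEigenspace_eq φ (1 : F)
    rw [← hχ, ← hc] at hfull
    have : φ.maxGenEigenspace (1 : F) = ⊥ := by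
      rw [eq_bot_iff]
      intro x hx
      obtain ⟨k, hk⟩ := (Module.End.mem_maxGenEigenspace _ _ _).1 hx
      rw [← hz k, LinearMap.mem_ker]
      simpa using hk
    rw [this, finrank_bot] at hfull
    omega
  refine LinearMap.ext fun x => ?_
  have hx : aeval φ R x ∈ LinearMap.ker ((φ - 1) ^ c) := by
    rw [LinearMap.mem_ker, ← Module.End.mul_apply, hφ, LinearMap.zero_apply]
  exact ker_pow_le_pred (φ - 1) (by omega) (hbd c) hx

variable {ι : Type*} [Fintype ι] [DecidableEq ι]

theorem exists_aff_bound [Fintype F] [CharP F 2] (Q : QuadraticForm F (ι → F))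
    (hQ : Q.polarBilin.Nondegenerate) (hι : Fintype.card ι = 8) (g : (ι → F) ≃ₗ[F] (ι → F))
    (hg : ∀ x, Q (g x) = Q x) (hg2 : Even (rk g)) (v : ι → F) :
    ∃ N ∈ bound, aff g v ^ val (Fintype.card F) N = 1 := by
  set φ : Module.End F (ι → F) := g.toLinearMap with hφ
  set M := LinearMap.toMatrix' φ with hM
  set B := LinearMap.toMatrix₂' F Q.polarBilin with hB
  have hMB : M.transpose * B * M = B := by
    rw [hM, hB, ← LinearMap.toMatrix₂'_compl₁₂]
    congr 1
    exact LinearMap.ext₂ fun x y => by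
      show QuadraticMap.polar (⇑Q) (g x) (g y) = QuadraticMap.polar (⇑Q) x y
      simp only [QuadraticMap.polar, ← map_add, hg]
  have hBd : B.det ≠ 0 := by
    rw [hB]
    exact Matrix.nondegenerate_iff_det_ne_zero.1 (LinearMap.nondegenerate_toMatrix₂'_iff.2 hQ)
  obtain ⟨hu, hsd⟩ := selfdual_of_form hBd hMB
  obtain ⟨N, hN, hdvd⟩ := exists_charpoly_dvd M hu hsd hι
  refine ⟨N, hN, ?_⟩
  have hcp : φ.charpoly = M.charpoly := by
    rw [hM, ← LinearMap.toMatrix_eq_toMatrix', LinearMap.charpoly_toMatrix]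
  rw [← hcp] at hdvd
  have hk : finrank F (LinearMap.ker (φ - 1)) ≠ 1 := by
    have h := LinearMap.finrank_range_add_finrank_ker (φ - 1)
    rw [Module.finrank_pi, hι] at h
    obtain ⟨k, hk⟩ := hg2
    rw [rk] at hk
    change finrank F (LinearMap.range (φ - 1)) = k + k at hk
    omega
  have hsum := sum_pow_eq_zero φ hdvd hk
  have hpow : ∀ i : ℕ, (g ^ i).toLinearMap = φ ^ i := by
    intro i
    induction i with
    | zero => rfl
    | succ i ih => rw [pow_succ, pow_succ, ← ih]; rfl
  set n := val (Fintype.card F) N with hn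
  have hsum' : ∑ i ∈ Finset.range n, φ ^ i = 0 := hsum
  have hgn : φ ^ n = 1 := by
    rw [← sub_eq_zero, ← geom_sum_mul, hsum', zero_mul]
  rw [aff_pow, show g ^ n = 1 from LinearEquiv.toLinearMap_injective (by rw [hpow, hgn]; rfl), ← aff_one (F := F)]
  congr 1
  have := LinearMap.congr_fun hsum' v
  rw [LinearMap.sum_apply, LinearMap.zero_apply] at this
  rw [← this]
  exact Finset.sum_congr rfl fun i _ => by rw [← hpow]; rfl

end Cfsg.Agent.SpecSpEight
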