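/-
Cyclic tori in orthogonal groups in characteristic two.
* `has_plus` : order `q ^ d - 1` in the hyperbolic space of dimension `2 d`
* `has_mixed` : order `2 (q + 1)` in the hyperbolic space of dimension four
* `has_minus` : order `q ^ d + 1` in the space of minus type of dimension `2 d`
-/
import Cfsg.Agent.Lib.SpecSpEight.Isom
import Cfsg.Agent.Lib.Forms.Bases
import Cfsg.Agent.Lib.Forms.Count
import Cfsg.Agent.Lib.GLOrder.SympAlg

set_option autoImplicit false
set_option linter.unusedSectionVars false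
set_option linter.unusedSimpArgs false

namespace Cfsg.Agent.SpecSpEight

open Cfsg.Agent.Forms Module

universe u

variable {F : Type u} [Field F] [Fintype F]

section Ext

variable {L : Type u} [Field L] [Algebra F L] [Finite L]

theorem Has.of_dual {d N : ℕ} (hd : finrank F L = d)
    (h : Has (fun p : L × L => Algebra.trace F L (p.1 * p.2)) N) : Has (qfPlus d F) N := by
  haveI : Module.Finite F L := Module.Finite.of_finite
  let b : Module.Basis (Fin d) F L := Module.finBasisOfFinrankEq F L hd
  let f : L →ₗ[F] (Fin d → F) := LinearMap.pi fun i => (Algebra.trace F L).comp (LinearMap.mulLeft F (b i))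
  have hinj : Function.Injective f := by
    rw [injective_iff_map_eq_zero]
    intro y hy
    refine (traceForm_nondegenerate F L).1 y fun z => ?_
    rw [Algebra.traceForm_apply, ← b.sum_repr z, Finset.mul_sum, map_sum]
    refine Finset.sum_eq_zero fun i _ => ?_
    have := congrFun hy i
    simp only [f, LinearMap.pi_apply, LinearMap.comp_apply, LinearMap.mulLeft_apply, Pi.zero_apply] at this
    rw [mul_smul_comm, map_smul, mul_comm, this, smul_zero]
  let e : (L × L) ≃ₗ[F] ((Fin d → F) × (Fin d → F)) :=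
    b.equivFun.prodCongr (LinearEquiv.ofInjectiveOfFinrankEq f hinj (by rw [hd]; simp))
  refine h.congr ((LinearEquiv.sumArrowLequivProdArrow (Fin d) (Fin d) F F).trans e.symm) fun w => ?_
  obtain ⟨⟨x, y⟩, hp⟩ : ∃ p, e p = LinearEquiv.sumArrowLequivProdArrow (Fin d) (Fin d) F F w :=
    ⟨e.symm _, e.apply_symm_apply _⟩
  rw [LinearEquiv.trans_apply, ← hp, e.symm_apply_apply, qfPlus_apply, Cfsg.quadFormPlus]
  have h1 : ∀ i, w (.inl i) = b.equivFun x i := fun i => (congrFun (congrArg Prod.fst hp) i).symm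
  have h2 : ∀ i, w (.inr i) = Algebra.trace F L (b i * y) := fun i => (congrFun (congrArg Prod.snd hp) i).symm
  show Algebra.trace F L (x * y) = _
  conv_lhs => rw [← b.sum_equivFun x]
  rw [Finset.sum_mul, map_sum]
  refine Finset.sum_congr rfl fun i _ => ?_
  rw [h1, h2, smul_mul_assoc, map_smul, smul_eq_mul]

/-- Multiplication by a unit on a field. -/
noncomputable def mulU (u : Lˣ) : L ≃ₗ[F] L :=
  LinearEquiv.ofLinearMap (LinearMap.mulLeft F (u : L)) (LinearMap.mulLeft F ((u⁻¹ : Lˣ) : L))
    (LinearMap.ext fun x => by simp) (LinearMap.ext fun x => by simp)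

theorem mulU_apply (u : Lˣ) (x : L) : mulU (F := F) u x = (u : L) * x := rfl

theorem has_dual_torus (g : Lˣ) : Has (fun p : L × L => Algebra.trace F L (p.1 * p.2)) (orderOf g) := by
  let T : (L × L) ≃ₗ[F] L × L := (mulU g).prodCongr (mulU g⁻¹)
  have hk : ∀ k p, ((T ^ k) p).1 = (g : L) ^ k * p.1 := by
    intro k
    induction k with
    | zero => simp
    | succ k ih =>
      intro p
      rw [pow_succ', LinearEquiv.mul_apply]
      show (g : L) * ((T ^ k) p).1 = _
      rw [ih, pow_succ']; ring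
  refine ⟨T, fun p => ?_, orderOf_dvd_of_pow_eq_one ?_⟩
  · show Algebra.trace F L ((g : L) * p.1 * (((g⁻¹ : Lˣ) : L) * p.2)) = _
    congr 1
    rw [mul_mul_mul_comm, Units.mul_inv, one_mul]
  · refine Units.ext ?_
    have := hk (orderOf T) (1, 0)
    rw [pow_orderOf_eq_one, mul_one] at this
    rw [Units.val_pow_eq_pow_val, Units.val_one]
    exact this.symm

end Ext

theorem has_plus {d : ℕ} (hd : 1 ≤ d) : Has (qfPlus d F) (Fintype.card F ^ d - 1) := by
  classical
  obtain ⟨L, _, _, hrk, _, hcard⟩ := GLOrder.exists_extension F hd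
  obtain ⟨g, hg⟩ := IsCyclic.exists_ofOrder_eq_natCard (α := Lˣ)
  refine ((has_dual_torus (F := F) g).of_dual hrk).mono ?_
  rw [hg, Nat.card_units, hcard, Nat.card_eq_fintype_card]

variable [CharP F 2]

theorem has_mixed : Has (qfPlus 2 F) (2 * (Fintype.card F + 1)) := by
  classical
  obtain ⟨L, _, _, hrk, _, hcard⟩ := GLOrder.exists_extension F (d := 2) one_le_two
  haveI : Module.Finite F L := Module.Finite.of_finite
  letI := Fintype.ofFinite L
  set q := Fintype.card F with hq
  rw [Nat.card_eq_fintype_card, Nat.card_eq_fintype_card, ← hq] at hcard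
  obtain ⟨g, hg⟩ := IsCyclic.exists_ofOrder_eq_natCard (α := Lˣ)
  rw [Nat.card_units, Nat.card_eq_fintype_card, hcard] at hg
  have hq1 : 1 < q := Fintype.one_lt_card
  have hsq : q ^ 2 - 1 = (q + 1) * (q - 1) := by rw [← one_pow 2, Nat.sq_sub_sq, one_pow]
  set u := g ^ (q - 1) with hu
  have huo : orderOf u = q + 1 := by
    rw [hu, orderOf_pow_of_dvd (by omega) (hg ▸ hsq ▸ Dvd.intro_left _ rfl), hg, hsq,
      Nat.mul_div_cancel _ (by omega)]
  let σ : L →ₐ[F] L := FiniteField.frobeniusAlgHom F L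
  have hσ : ∀ x, σ x = x ^ q := fun x => rfl
  have huσ : (u : L) * σ u = 1 := by
    rw [hσ, ← pow_succ', ← Units.val_pow_eq_pow_val, ← huo, pow_orderOf_eq_one, Units.val_one]
  let hmap : (L × L) →ₗ[F] L × L :=
    (LinearMap.fst F L L).prod (LinearMap.snd F L L + σ.toLinearMap.comp (LinearMap.fst F L L))
  have h2 : ∀ x : L, x + x = 0 := fun x => by
    rw [← two_mul, ← map_ofNat (algebraMap F L) 2, two0 (F := F), map_zero, zero_mul]
  have hhh : ∀ p, hmap (hmap p) = p := fun p => by
    refine Prod.ext rfl ?_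
    show p.2 + σ p.1 + σ p.1 = p.2
    rw [add_assoc, h2, add_zero]
  let H : (L × L) ≃ₗ[F] L × L := LinearEquiv.ofLinearMap hmap hmap (LinearMap.ext hhh) (LinearMap.ext hhh)
  let T : (L × L) ≃ₗ[F] L × L := (mulU u).prodCongr (mulU u⁻¹)
  let G : (L × L) ≃ₗ[F] L × L := H.trans T
  have hk : ∀ k p, ((G ^ k) p).1 = (u : L) ^ k * p.1 ∧
      ((G ^ k) p).2 = ((u⁻¹ : Lˣ) : L) ^ k * (p.2 + k • σ p.1) := by
    intro k
    induction k with
    | zero => simp
    | succ k ih =>
      intro p
      obtain ⟨h1, h3⟩ := ih p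
      rw [pow_succ', LinearEquiv.mul_apply]
      refine ⟨?_, ?_⟩
      · show (u : L) * ((G ^ k) p).1 = _
        rw [h1, pow_succ']; ring
      · show ((u⁻¹ : Lˣ) : L) * (((G ^ k) p).2 + σ ((G ^ k) p).1) = _
        have hsu : σ (u : L) = ((u⁻¹ : Lˣ) : L) := by
          rw [← one_mul (σ _), ← Units.inv_mul u, mul_assoc, huσ, mul_one]
        rw [h1, h3, map_mul, map_pow, hsu, pow_succ', succ_nsmul]
        ring
  have hG : Has (fun p : L × L => Algebra.trace F L (p.1 * p.2)) (2 * (q + 1)) := by
    refine ⟨G, fun p => ?_, ?_⟩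
    · show Algebra.trace F L ((u : L) * p.1 * (((u⁻¹ : Lˣ) : L) * (p.2 + σ p.1))) = _
      have hN : p.1 * σ p.1 = algebraMap F L (Algebra.norm F p.1) := by
        rw [FiniteField.algebraMap_norm_eq_prod_pow, hrk, Finset.prod_range_succ, Finset.prod_range_one, pow_zero,
          pow_one, pow_one, hσ, hq, Nat.card_eq_fintype_card]
      rw [mul_mul_mul_comm, Units.mul_inv, one_mul, mul_add, map_add, hN, Algebra.trace_algebraMap, hrk,
        two_smul, CharTwo.add_self_eq_zero, add_zero]
    · set k := orderOf G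
      have e1 := (hk k (1, 0)).1
      have e2 := (hk k (1, 0)).2
      rw [pow_orderOf_eq_one] at e1 e2
      simp only [mul_one, map_one, zero_add, LinearEquiv.coe_one, id_eq] at e1 e2
      have hdq : q + 1 ∣ k := huo ▸ orderOf_dvd_of_pow_eq_one (Units.ext (by
        rw [Units.val_pow_eq_pow_val, Units.val_one]; exact e1.symm))
      have hdk : 2 ∣ k := by
        by_contra hodd
        obtain ⟨l, hl⟩ := Nat.odd_iff.mpr (Nat.two_dvd_ne_zero.mp hodd)
        refine one_ne_zero (α := L) ?_
        rw [hl, succ_nsmul, mul_comm 2 l, mul_nsmul', two_nsmul, h2, smul_zero, zero_add, mul_one] at e2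
        exact absurd e2.symm (pow_ne_zero _ (Units.ne_zero _))
      refine Nat.Coprime.mul_dvd_of_dvd_of_dvd ?_ hdk hdq
      rw [Nat.coprime_two_left, Nat.odd_add_one, Nat.not_odd_iff_even, hq]
      exact Nat.even_iff.mpr (FiniteField.even_card_of_char_two (ringChar.eq F 2))
  exact hG.of_dual hrk

theorem has_minus {a b : F} (hab : ∀ x y : F, x ^ 2 + a * x * y + b * y ^ 2 = 0 → x = 0 ∧ y = 0) (m : ℕ) :
    Has (qfMinus m F a b) (Fintype.card F ^ (m + 1) + 1) := by
  classical
  set d := m + 1 with hd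
  obtain ⟨L, _, _, hrk, _, hcard⟩ := GLOrder.exists_extension F (d := d + d) (by omega)
  haveI : Module.Finite F L := Module.Finite.of_finite
  letI := Fintype.ofFinite L
  set q := Fintype.card F with hq
  rw [Nat.card_eq_fintype_card, Nat.card_eq_fintype_card, ← hq] at hcard
  have hq1 : 1 < q := Fintype.one_lt_card
  have hqeven : Even q := Nat.even_iff.mpr (FiniteField.even_card_of_char_two (ringChar.eq F 2))
  haveI : CharP L 2 := charP_of_injective_algebraMap' F 2
  let σ : L ≃ₐ[F] L := (FiniteField.frobeniusAlgEquivOfAlgebraic F L) ^ d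
  have hσ : ∀ x, σ x = x ^ q ^ d := fun x => by
    show ((FiniteField.frobeniusAlgEquivOfAlgebraic F L) ^ d) x = _
    rw [AlgEquiv.coe_pow, FiniteField.coe_frobeniusAlgEquivOfAlgebraic_iterate]
  have hσσ : ∀ x, σ (σ x) = x := fun x => by
    rw [hσ, hσ, ← pow_mul, ← pow_add, ← hcard, FiniteField.pow_card]
  have hdq : 1 < q ^ d := Nat.one_lt_pow (by omega) hq1
  obtain ⟨g, hg⟩ := IsCyclic.exists_ofOrder_eq_natCard (α := Lˣ)
  rw [Nat.card_units, Nat.card_eq_fintype_card, hcard] at hg
  have hNat : (q ^ d + 1) * (q ^ d - 1) = q ^ (d + d) - 1 := by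
    have h := Nat.sq_sub_sq (q ^ d) 1
    rw [one_pow, ← pow_mul, mul_two] at h
    exact h.symm
  set u := g ^ (q ^ d - 1) with hu
  have huo : orderOf u = q ^ d + 1 := by
    rw [hu, orderOf_pow_of_dvd (by omega) (hg ▸ hNat ▸ Dvd.intro_left _ rfl), hg, ← hNat,
      Nat.mul_div_cancel _ (by omega)]
  have huσ : (u : L) * σ u = 1 := by
    rw [hσ, ← pow_succ', ← Units.val_pow_eq_pow_val, ← huo, pow_orderOf_eq_one, Units.val_one]
  obtain ⟨c, hc⟩ : ∃ c : L, c + σ c = 1 := by
    have hga : σ (g : L) ≠ g := fun h => by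
      rw [hσ] at h
      have h1 : g ^ (q ^ d - 1) = 1 := Units.ext (by
        rw [Units.val_pow_eq_pow_val, Units.val_one]
        refine mul_right_cancel₀ g.ne_zero ?_
        rw [← pow_succ, Nat.sub_add_cancel hdq.le, h, one_mul])
      rw [← hu] at h1
      rw [h1, orderOf_one] at huo
      omega
    have hne : (g : L) + σ g ≠ 0 := fun h => hga (by
      rw [add_eq_zero_iff_eq_neg, CharTwo.neg_eq] at h; exact h.symm)
    refine ⟨(g : L) / ((g : L) + σ g), ?_⟩
    rw [map_div₀, map_add, hσσ, add_comm (σ (g : L)) (g : L), ← add_div, div_self hne]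
  let B : LinearMap.BilinForm F L :=
    ((LinearMap.mul F L).compl₂ σ.toLinearMap).compr₂ ((Algebra.trace F L).comp (LinearMap.mulLeft F c))
  have hB : ∀ x y, B x y = Algebra.trace F L (c * (x * σ y)) := fun x y => rfl
  let Q : QuadraticForm F L := LinearMap.BilinMap.toQuadraticMap B
  have hQ : ∀ x, Q x = Algebra.trace F L (c * (x * σ x)) := fun x => rfl
  have hpol : ∀ x y, QuadraticMap.polar Q x y = Algebra.trace F L (x * σ y) := fun x y => by
    have e : Algebra.trace F L (c * (y * σ x)) = Algebra.trace F L (σ c * (x * σ y)) := by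
      rw [← Algebra.trace_eq_of_algEquiv σ (c * (y * σ x)), map_mul σ, map_mul σ, hσσ, mul_comm (σ y) x]
    have h1 : QuadraticMap.polar Q x y = B x y + B y x := LinearMap.BilinMap.polar_toQuadraticMap x y
    rw [h1, hB, hB, e, ← map_add, ← add_mul, hc, one_mul]
  have hnd : (QuadraticMap.polarBilin Q).Nondegenerate := (nondegenerate_polarBilin_iff Q).2 fun x hx =>
    (traceForm_nondegenerate F L).1 x fun z => by
      have := hx (σ z)
      rwa [hpol, hσσ] at this
  let T : L ≃ₗ[F] L := mulU u
  have hTQ : ∀ x, Q (T x) = Q x := fun x => by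
    rw [hQ, hQ]
    show Algebra.trace F L (c * ((u : L) * x * σ ((u : L) * x))) = _
    rw [map_mul σ, mul_mul_mul_comm, huσ, one_mul]
  have hH : Has (fun x : L => Q x) (q ^ d + 1) := by
    refine ⟨T, hTQ, ?_⟩
    have hk : ∀ k x, (T ^ k) x = (u : L) ^ k * x := by
      intro k
      induction k with
      | zero => simp
      | succ k ih => intro x; rw [pow_succ', LinearEquiv.mul_apply, ih]; show (u : L) * _ = _; rw [pow_succ']; ring
    rw [← huo]
    refine orderOf_dvd_of_pow_eq_one (Units.ext ?_)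
    have := hk (orderOf T) 1
    rw [pow_orderOf_eq_one, mul_one] at this
    rw [Units.val_pow_eq_pow_val, Units.val_one]
    exact this.symm
  rcases classify_even Q hnd (m := d) (by rw [hrk]; ring) hab with ⟨e, he⟩ | ⟨-, e, he⟩
  · exfalso
    have hz : Nat.card {v // qfPlus d F v = 0} = Nat.card {x // Q x = 0} :=
      Nat.card_congr (e.toEquiv.subtypeEquiv fun v => by simp [← he])
    let H : Subgroup Lˣ := Subgroup.zpowers u
    let S : Set Lˣ := {z | Q (z : L) = 0}
    have hS : QuotientGroup.mk ⁻¹' (QuotientGroup.mk '' S : Set (Lˣ ⧸ H)) = S := by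
      refine subset_antisymm ?_ (Set.subset_preimage_image _ _)
      rintro z ⟨w, hw, hwz⟩
      obtain ⟨k, hk⟩ := (Submonoid.mem_powers_iff _ _).mp
        ((mem_powers_iff_mem_zpowers (x := u)).2 (QuotientGroup.eq.1 hwz))
      show Q (z : L) = 0
      have hz' : z = u ^ k * w := by rw [hk, mul_comm, mul_inv_cancel_left]
      rw [hz', Units.val_mul, Units.val_pow_eq_pow_val]
      clear hz' hk
      induction k with
      | zero => rw [pow_zero, one_mul]; exact hw
      | succ k ih => rw [pow_succ', mul_assoc]; exact (hTQ _).trans ih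
    have hdvd : q ^ d + 1 ∣ Nat.card ↥S := by
      rw [← huo, ← Nat.card_zpowers]
      exact ⟨_, by rw [← Nat.card_prod, ← Nat.card_congr (QuotientGroup.preimageMkEquivSubgroupProdSet H
        (QuotientGroup.mk '' S)), hS]⟩
    have hsplit : Nat.card {x // Q x = 0} = Nat.card ↥S + 1 := by
      let f : Option ↥S → {x // Q x = 0} := fun o => o.elim ⟨0, QuadraticMap.map_zero Q⟩ fun z => ⟨(z.1 : L), z.2⟩
      have hf : Function.Bijective f := by
        refine ⟨?_, fun x => ?_⟩
        · intro o o' h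
          have h' := congrArg Subtype.val h
          rcases o with _ | z <;> rcases o' with _ | z'
          · rfl
          · exact absurd h'.symm z'.1.ne_zero
          · exact absurd h' z.1.ne_zero
          · exact congrArg some (Subtype.ext (Units.ext h'))
        · rcases eq_or_ne x.1 0 with h0 | h0
          · exact ⟨none, Subtype.ext h0.symm⟩
          · exact ⟨some ⟨Units.mk0 x.1 h0, x.2⟩, rfl⟩
      rw [← Nat.card_congr (Equiv.ofBijective f hf), Finite.card_option]
    have hP := card_zeros_qfPlus (F := F) m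
    rw [hz, hsplit, Nat.card_eq_fintype_card (α := F), ← hq] at hP
    obtain ⟨w, hw⟩ := hdvd
    rw [hw] at hP
    push_cast at hP
    set x : ℤ := (q : ℤ) ^ m with hx
    have hA : ((q ^ d : ℕ) : ℤ) = q * x := by rw [hd, hx]; push_cast; ring
    rw [show (q : ℤ) ^ (2 * m + 1) = q * x * x by rw [hx]; ring,
      show (q : ℤ) ^ (m + 1) = q * x by rw [hx]; ring] at hP
    have hdiv : (q * x + 1 : ℤ) ∣ 2 * (x + 1) :=
      ⟨x + 1 - w, by linear_combination hP⟩
    have hx1 : 1 ≤ x := one_le_pow₀ (by exact_mod_cast hq1.le)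
    have hq2 : (2 : ℤ) ≤ q := by exact_mod_cast hq1
    obtain ⟨k, hk⟩ := hdiv
    have hk1 : k = 1 := by
      rcases le_or_gt k 0 with h | h
      · exfalso; nlinarith
      · rcases eq_or_lt_of_le (Int.add_one_le_of_lt h) with h' | h'
        · omega
        · exfalso; nlinarith [mul_le_mul_of_nonneg_left (show (2 : ℤ) ≤ k by omega) (show (0 : ℤ) ≤ q * x + 1 by nlinarith)]
    subst hk1
    obtain ⟨r, hr⟩ := hqeven
    have hr' : (q : ℤ) = r + r := by exact_mod_cast hr
    have : (2 : ℤ) ∣ 1 := ⟨x + 1 - r * x, by rw [hr'] at hk; linear_combination -hk⟩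
    norm_num at this
  · exact hH.congr e he

end Cfsg.Agent.SpecSpEight
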