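/-
The twelve numbers are orders in the orthogonal group of minus type of dimension eight, and that
group embeds into the symplectic group.
* `exists_hom_sp` : isometries of a nonsingular form in characteristic two are symplectic
* `has_bound` : every entry of `bound` is realised
-/
import Cfsg.Agent.Lib.SpecSpEight.Tori
import Cfsg.Agent.Lib.SpecSpEight.Bound
import Cfsg.Agent.Lib.Forms.Witt
import Cfsg.Agent.Lib.GLOrder.Symplectic

set_option autoImplicit false
set_option linter.unusedSectionVars false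

namespace Cfsg.Agent.SpecSpEight

open Cfsg.Agent.Forms Cfsg.Agent.GLOrder Module Matrix

universe u v

variable {F : Type u} [Field F] [CharP F 2]

theorem exists_hom_sp {V : Type v} [AddCommGroup V] [Module F V] [FiniteDimensional F V] (Q : QuadraticForm F V)
    (hQ : (QuadraticMap.polarBilin Q).Nondegenerate) {m : ℕ} (hm : finrank F V = 2 * m) :
    ∃ ψ : preservingFun (F := F) (V := V) (fun v => Q v) →* Matrix.symplecticGroup (Fin m) F,
      Function.Injective ψ := by
  classical
  let B : LinearMap.BilinForm F V := QuadraticMap.polarBilin Q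
  have halt : ∀ x, B x x = 0 := fun x => by
    show QuadraticMap.polar Q x x = 0
    rw [QuadraticMap.polar_self, two_nsmul, CharTwo.add_self_eq_zero]
  obtain ⟨t⟩ := nonempty_frame m B halt hQ.1 hm
  let φ : (Fin m ⊕ Fin m → F) →ₗ[F] V := Fintype.linearCombination F (Sum.elim t.1.1 t.1.2)
  have hφ : ∀ v, φ v = ∑ i, v (.inl i) • t.1.1 i + ∑ i, v (.inr i) • t.1.2 i := fun v => by
    simp [φ, Fintype.linearCombination_apply, Fintype.sum_sum_type]
  obtain ⟨h1, h2, h3⟩ := t.2
  have h3' : ∀ i j, B (t.1.2 i) (t.1.1 j) = -(if j = i then 1 else 0) := fun i j => by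
    rw [alt_swap halt, h3]
  have hform : ∀ v w, B (φ v) (φ w) = sympB m F v w := by
    intro v w
    simp only [hφ, map_add, map_sum, map_smul, LinearMap.add_apply, LinearMap.sum_apply,
      LinearMap.smul_apply, smul_eq_mul, h1, h2, h3, h3', sympB_apply, mul_zero, Finset.sum_const_zero,
      mul_ite, mul_one, mul_neg, Finset.sum_neg_distrib, Finset.sum_ite_eq,
      Finset.sum_ite_eq', Finset.mem_univ, if_true, zero_add, add_zero, Finset.sum_sub_distrib]
    simp only [mul_comm (w _) (v _)]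
    ring
  have hinj : Function.Injective φ := by
    intro v w hvw
    refine sub_eq_zero.1 (sympB_nondeg (v - w) fun z => ?_)
    rw [← hform, map_sub, hvw, sub_self, map_zero, LinearMap.zero_apply]
  let Φ : (Fin m ⊕ Fin m → F) ≃ₗ[F] V := LinearEquiv.ofInjectiveOfFinrankEq φ hinj (by
    rw [hm, finrank_sympSpace])
  let L : preservingFun (F := F) (V := V) (fun v => Q v) →* Matrix (Fin m ⊕ Fin m) (Fin m ⊕ Fin m) F :=
    { toFun := fun g => LinearMap.toMatrix' (Φ.symm.toLinearMap ∘ₗ g.1.toLinearMap ∘ₗ Φ.toLinearMap)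
      map_one' := by rw [← LinearMap.toMatrix'_one]; congr 1; ext v; simp
      map_mul' := fun a b => by
        rw [← LinearMap.toMatrix'_comp]; congr 1; ext v; simp }
  have hL : ∀ g v, Φ (L g *ᵥ v) = g.1 (Φ v) := fun g v => by simp [L, LinearMap.toMatrix'_mulVec]
  have hmem : ∀ g, L g ∈ Matrix.symplecticGroup (Fin m) F := fun g => by
    rw [mem_symplecticGroup_iff_preserves]
    intro v w
    rw [← hform, ← hform]
    show B (Φ (L g *ᵥ v)) (Φ (L g *ᵥ w)) = B (Φ v) (Φ w)
    rw [hL, hL]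
    exact polar_map_of_preserving (fun x => g.2 x) _ _
  refine ⟨MonoidHom.codRestrict L _ hmem, fun g h hgh => Subtype.ext (LinearEquiv.ext fun x => ?_)⟩
  have h' : L g = L h := congrArg Subtype.val hgh
  have e := congrArg (fun M => Φ (M *ᵥ Φ.symm x)) h'
  simpa [hL] using e

section List

variable [Fintype F]

theorem even_q : Even (Fintype.card F) := Nat.even_iff.mpr (FiniteField.even_card_of_char_two (ringChar.eq F 2))

theorem odd_atom {j : ℕ} (s : Bool) (hj : j ≠ 0) : Odd (atomVal (Fintype.card F) (j, s)) := by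
  have hq : Even (Fintype.card F ^ j) := (Nat.even_pow).2 ⟨even_q, hj⟩
  have : 0 < Fintype.card F ^ j := pow_pos Fintype.card_pos _
  unfold atomVal
  cases s
  · exact Nat.Even.sub_odd this hq odd_one
  · exact hq.add_one

theorem val_dvd {N : List Atom × ℕ} {X : ℕ} (hN : ∀ c ∈ N.1, c.1 ≠ 0)
    (h : ∀ c ∈ N.1, atomVal (Fintype.card F) c ∣ X) (h2 : 2 ^ N.2 ∣ X) : val (Fintype.card F) N ∣ X := by
  have key : ∀ L : List Atom, (∀ c ∈ L, c.1 ≠ 0) → (∀ c ∈ L, atomVal (Fintype.card F) c ∣ X) →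
      (L.map (atomVal (Fintype.card F))).foldr Nat.lcm 1 ∣ X ∧
        Odd ((L.map (atomVal (Fintype.card F))).foldr Nat.lcm 1) := by
    intro L
    induction L with
    | nil => intro _ _; exact ⟨one_dvd _, odd_one⟩
    | cons c L ih =>
      intro hc hd
      obtain ⟨h1, ho⟩ := ih (fun d hd' => hc d (List.mem_cons_of_mem _ hd'))
        (fun d hd' => hd d (List.mem_cons_of_mem _ hd'))
      rw [List.map_cons, List.foldr_cons]
      refine ⟨Nat.lcm_dvd (hd c List.mem_cons_self) h1, ?_⟩
      exact Odd.of_dvd_nat ((odd_atom c.2 (hc c List.mem_cons_self)).mul ho) (Nat.lcm_dvd_mul _ _)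
  obtain ⟨h1, ho⟩ := key N.1 hN h
  exact Nat.Coprime.mul_dvd_of_dvd_of_dvd ((Nat.coprime_two_right.2 ho).pow_right _) h1 h2

theorem dvd_lcm_of_left {a b c : ℕ} (h : a ∣ b) : a ∣ Nat.lcm b c := h.trans (Nat.dvd_lcm_left _ _)

theorem dvd_lcm_of_right {a b c : ℕ} (h : a ∣ c) : a ∣ Nat.lcm b c := h.trans (Nat.dvd_lcm_right _ _)

theorem sq_sub_one_dvd {q X : ℕ} (hq : Even q) (h0 : 0 < q) (h1 : q - 1 ∣ X) (h2 : q + 1 ∣ X) :
    q ^ 2 - 1 ∣ X := by
  rw [show q ^ 2 - 1 = (q + 1) * (q - 1) by rw [← one_pow 2, Nat.sq_sub_sq, one_pow]]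
  refine Nat.Coprime.mul_dvd_of_dvd_of_dvd ?_ h2 h1
  have hd : Nat.gcd (q + 1) (q - 1) ∣ 2 := by
    have h := Nat.dvd_sub (Nat.gcd_dvd_left (q + 1) (q - 1)) (Nat.gcd_dvd_right (q + 1) (q - 1))
    rwa [show q + 1 - (q - 1) = 2 by omega] at h
  rcases (Nat.dvd_prime Nat.prime_two).1 hd with h | h
  · exact h
  · have h' := h ▸ Nat.gcd_dvd_left (q + 1) (q - 1)
    obtain ⟨k, hk⟩ := hq
    obtain ⟨l, hl⟩ := h'
    omega

theorem has_bound {a b : F} (hab : ∀ x y : F, x ^ 2 + a * x * y + b * y ^ 2 = 0 → x = 0 ∧ y = 0) :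
    ∀ N ∈ bound, Has (qfMinus 3 F a b) (val (Fintype.card F) N) := by
  set q := Fintype.card F with hq
  have hq0 : 0 < q := Fintype.card_pos
  have he : Even q := even_q
  have hP : ∀ {d : ℕ}, 1 ≤ d → Has (qfPlus d F) (q ^ d - 1) := fun h => has_plus h
  have hM : ∀ m, Has (qfMinus m F a b) (q ^ (m + 1) + 1) := fun m => has_minus hab m
  have hS : q - 1 ∣ q ^ 2 - 1 ∧ q + 1 ∣ q ^ 2 - 1 := by
    rw [show q ^ 2 - 1 = (q + 1) * (q - 1) by rw [← one_pow 2, Nat.sq_sub_sq, one_pow]]
    exact ⟨dvd_mul_left _ _, dvd_mul_right _ _⟩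
  have h3 : q + 1 ∣ q ^ 3 + 1 := by simpa using (show Odd 3 by decide).nat_add_dvd_pow_add_pow q 1
  have h3' : q - 1 ∣ q ^ 3 - 1 := by simpa using Nat.sub_dvd_pow_sub_pow q 1 3
  intro N hN
  simp only [bound, List.mem_cons, List.mem_nil_iff, or_false] at hN
  rcases hN with rfl | rfl | rfl | rfl | rfl | rfl | rfl | rfl | rfl | rfl | rfl | rfl
  · exact (hM 3).mono (val_dvd (by simp) (by simp [atomVal]; rfl) (one_dvd _))
  · refine (has_glue (hP one_le_two) (hM 1)).mono (val_dvd (by simp) ?_ (one_dvd _))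
    simp only [List.forall_mem_cons, List.not_mem_nil, false_imp_iff, implies_true, and_true, atomVal, if_true,
      Bool.false_eq_true, if_false, pow_one, ← hq]
    refine ⟨?_, dvd_lcm_of_left dvd_rfl, dvd_lcm_of_right dvd_rfl, dvd_lcm_of_left hS.1, dvd_lcm_of_left hS.2⟩
    rw [show q ^ 4 - 1 = (q ^ 2) ^ 2 - 1 by rw [← pow_mul]]
    exact sq_sub_one_dvd (Nat.even_pow.2 ⟨he, two_ne_zero⟩) (pow_pos hq0 _) (dvd_lcm_of_left dvd_rfl)
      (dvd_lcm_of_right dvd_rfl)
  · refine (has_glue (hP le_rfl) (hM 2)).mono (val_dvd (by simp) ?_ (one_dvd _))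
    simp only [List.forall_mem_cons, List.not_mem_nil, false_imp_iff, implies_true, and_true, atomVal, if_true,
      Bool.false_eq_true, if_false, pow_one, ← hq]
    exact ⟨dvd_lcm_of_right dvd_rfl, dvd_lcm_of_right h3, dvd_lcm_of_left dvd_rfl⟩
  · refine (has_glue (hP (show 1 ≤ 3 by omega)) (hM 0)).mono (val_dvd (by simp) ?_ (one_dvd _))
    simp only [List.forall_mem_cons, List.not_mem_nil, false_imp_iff, implies_true, and_true, atomVal, if_true,
      Bool.false_eq_true, if_false, pow_one, ← hq, zero_add]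
    exact ⟨dvd_lcm_of_left dvd_rfl, dvd_lcm_of_right dvd_rfl, dvd_lcm_of_left h3'⟩
  · refine (has_glue (has_swap (F := F)) (hM 2)).mono (val_dvd (by simp) ?_ (Nat.dvd_lcm_left _ _))
    simp only [List.forall_mem_cons, List.not_mem_nil, false_imp_iff, implies_true, and_true, atomVal, if_true,
      Bool.false_eq_true, if_false, pow_one, ← hq]
    exact ⟨dvd_lcm_of_right dvd_rfl, dvd_lcm_of_right h3⟩
  · refine (has_glue (hP (show 1 ≤ 3 by omega)) (has_reflection hab)).mono
      (val_dvd (by simp) ?_ (Nat.dvd_lcm_right _ _))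
    simp only [List.forall_mem_cons, List.not_mem_nil, false_imp_iff, implies_true, and_true, atomVal, if_true,
      Bool.false_eq_true, if_false, pow_one, ← hq]
    exact ⟨dvd_lcm_of_left dvd_rfl, dvd_lcm_of_left h3'⟩
  · refine (has_glue (has_swap (F := F)) (has_glue (hP le_rfl) (hM 1))).mono
      (val_dvd (by simp) ?_ (Nat.dvd_lcm_left _ _))
    simp only [List.forall_mem_cons, List.not_mem_nil, false_imp_iff, implies_true, and_true, atomVal, if_true,
      Bool.false_eq_true, if_false, pow_one, ← hq]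
    exact ⟨dvd_lcm_of_right (dvd_lcm_of_right dvd_rfl), dvd_lcm_of_right (dvd_lcm_of_left dvd_rfl)⟩
  · refine (has_glue (has_mixed (F := F)) (hM 1)).mono
      (val_dvd (by simp) ?_ (dvd_lcm_of_left (dvd_mul_right _ _)))
    simp only [List.forall_mem_cons, List.not_mem_nil, false_imp_iff, implies_true, and_true, atomVal, if_true,
      Bool.false_eq_true, if_false, pow_one, ← hq]
    exact ⟨dvd_lcm_of_right dvd_rfl, dvd_lcm_of_left (dvd_mul_left _ _)⟩
  · refine (has_glue (has_four (F := F)) (hM 1)).mono (val_dvd (by simp) ?_ (dvd_lcm_of_left (by norm_num)))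
    simp only [List.forall_mem_cons, List.not_mem_nil, false_imp_iff, implies_true, and_true, atomVal, if_true,
      Bool.false_eq_true, if_false, pow_one, ← hq]
    exact dvd_lcm_of_right dvd_rfl
  · refine (has_glue (has_four (F := F)) (has_glue (hP le_rfl) (hM 0))).mono
      (val_dvd (by simp) ?_ (dvd_lcm_of_left (by norm_num)))
    simp only [List.forall_mem_cons, List.not_mem_nil, false_imp_iff, implies_true, and_true, atomVal, if_true,
      Bool.false_eq_true, if_false, pow_one, ← hq, zero_add]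
    exact ⟨dvd_lcm_of_right (sq_sub_one_dvd he hq0 (dvd_lcm_of_left dvd_rfl) (dvd_lcm_of_right dvd_rfl)),
      dvd_lcm_of_right (dvd_lcm_of_left dvd_rfl), dvd_lcm_of_right (dvd_lcm_of_right dvd_rfl)⟩
  · refine (has_glue (has_eight_plus (F := F)) (hM 0)).mono (val_dvd (by simp) ?_ (dvd_lcm_of_left (by norm_num)))
    simp only [List.forall_mem_cons, List.not_mem_nil, false_imp_iff, implies_true, and_true, atomVal, if_true,
      Bool.false_eq_true, if_false, pow_one, ← hq, zero_add]
    exact dvd_lcm_of_right dvd_rfl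
  · refine (has_glue (hP le_rfl) (has_eight_minus a b hab)).mono
      (val_dvd (by simp) ?_ (dvd_lcm_of_right (by norm_num)))
    simp only [List.forall_mem_cons, List.not_mem_nil, false_imp_iff, implies_true, and_true, atomVal, if_true,
      Bool.false_eq_true, if_false, pow_one, ← hq]
    exact dvd_lcm_of_left dvd_rfl

end List

end Cfsg.Agent.SpecSpEight
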