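/-
The twelve numbers are orders of affine isometries of minus type in dimension eight.
* `affHas_four` : order four, linear part an involution with residue of dimension two
* `affHas_six` : order eight in dimension six
* `affHas_bound` : every entry of `bound` is realised
-/
import Cfsg.Agent.Lib.SpecSpEight.Affine
import Cfsg.Agent.Lib.SpecSpEight.Realise

set_option autoImplicit false
set_option linter.unusedSectionVars false
set_option linter.unusedSimpArgs false

namespace Cfsg.Agent.SpecSpEight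

open Cfsg.Agent.Forms Module

variable {F : Type*} [Field F] [CharP F 2]

theorem natCast_even0 {n : ℕ} [n.AtLeastTwo] (h : n % 2 = 0) : (OfNat.ofNat n : F) = 0 := by
  rw [← Nat.cast_ofNat, CharP.cast_eq_zero_iff F 2]
  exact Nat.dvd_of_mod_eq_zero h

theorem natCast_odd1 {n : ℕ} [n.AtLeastTwo] (h : n % 2 = 1) : (OfNat.ofNat n : F) = 1 := by
  rw [← Nat.cast_ofNat]
  obtain ⟨k, hk⟩ : ∃ k, OfNat.ofNat n = 2 * k + 1 := ⟨n / 2, by show n = _; omega⟩
  rw [hk, Nat.cast_add, Nat.cast_mul, Nat.cast_ofNat, two0, zero_mul, zero_add, Nat.cast_one]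

theorem affHas_four : AffHas (⇑(qfPlus 2 F)) 4 := by
  haveI := Fact.mk Nat.prime_two
  let f : (Fin 2 ⊕ Fin 2 → F) →ₗ[F] (Fin 2 ⊕ Fin 2 → F) :=
    { toFun := fun v => Sum.elim (fun i => v (.inl i))
        ![v (.inr 0) + v (.inl 1), v (.inr 1) + v (.inl 0)]
      map_add' := fun u v => by
        funext i; rcases i with i | i
        · rfl
        · fin_cases i <;> simp <;> ring
      map_smul' := fun c v => by
        funext i; rcases i with i | i
        · rfl
        · fin_cases i <;> simp <;> ring }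
  have hinv : ∀ v, f (f v) = v := fun v => by
    funext i; rcases i with i | i
    · rfl
    · fin_cases i <;> simp [f] <;> ring_nf <;> simp [two0 (F := F), three0 (F := F), four0 (F := F), natCast_even0 (F := F) (n := 6) rfl, natCast_even0 (F := F) (n := 8) rfl, natCast_even0 (F := F) (n := 10) rfl, natCast_odd1 (F := F) (n := 5) rfl]
  let g : (Fin 2 ⊕ Fin 2 → F) ≃ₗ[F] (Fin 2 ⊕ Fin 2 → F) :=
    LinearEquiv.ofLinearMap f f (LinearMap.ext hinv) (LinearMap.ext hinv)
  let v : Fin 2 ⊕ Fin 2 → F := Sum.elim ![1, 0] ![0, 0]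
  refine ⟨g, v, fun x => ?_, ?_, ?_⟩
  · simp [qfPlus_apply, Cfsg.quadFormPlus, g, f, Fin.sum_univ_two]
    ring_nf
    simp [two0 (F := F), three0 (F := F), four0 (F := F), natCast_even0 (F := F) (n := 6) rfl, natCast_even0 (F := F) (n := 8) rfl, natCast_even0 (F := F) (n := 10) rfl, natCast_odd1 (F := F) (n := 5) rfl]
  · let inc : (F × F) →ₗ[F] (Fin 2 ⊕ Fin 2 → F) :=
      { toFun := fun p => Sum.elim 0 ![p.1, p.2]
        map_add' := fun p q => by
          funext i; rcases i with i | i
          · simp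
          · fin_cases i <;> simp
        map_smul' := fun c p => by
          funext i; rcases i with i | i
          · simp
          · fin_cases i <;> simp }
    have h : LinearMap.range (g.toLinearMap - LinearMap.id) = LinearMap.range inc := by
      refine le_antisymm ?_ ?_
      · rintro _ ⟨x, rfl⟩
        refine ⟨(x (.inl 1), x (.inl 0)), funext fun i => ?_⟩
        rcases i with i | i
        · simp [inc, g, f]
        · fin_cases i <;> simp [inc, g, f]
      · rintro _ ⟨p, rfl⟩
        refine ⟨Sum.elim ![p.2, p.1] 0, funext fun i => ?_⟩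
        rcases i with i | i
        · simp [inc, g, f]
        · fin_cases i <;> simp [inc, g, f]
    have hi : Function.Injective inc := fun p q e => by
      have h0 := congrFun e (.inr 0)
      have h1 := congrFun e (.inr 1)
      exact Prod.ext (by simpa [inc] using h0) (by simpa [inc] using h1)
    rw [rk, h, LinearMap.finrank_range_of_inj hi]
    simp
  · refine dvd_of_eq (orderOf_eq_prime_pow (p := 2) (n := 1) (fun h => ?_) ?_).symm
    · have := congrArg (fun p : Equiv.Perm (Fin 2 ⊕ Fin 2 → F) => p 0 (.inr 1)) h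
      simp [sq, aff_apply, v, g, f] at this
    · refine Equiv.ext fun x => funext fun i => ?_
      show (aff g v ^ (4 : ℕ)) x i = x i
      rcases i with i | i <;> fin_cases i <;>
        simp [pow_succ, aff_apply, v, g, f] <;> ring_nf <;> simp [two0 (F := F), three0 (F := F), four0 (F := F), natCast_even0 (F := F) (n := 6) rfl, natCast_even0 (F := F) (n := 8) rfl, natCast_even0 (F := F) (n := 10) rfl, natCast_odd1 (F := F) (n := 5) rfl]

section Six

variable (a b : F)

/-- A unipotent isometry with residue of dimension four. -/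
def reg4 : ((F × F) × ((F × F) × (F × F))) →ₗ[F] ((F × F) × ((F × F) × (F × F))) where
  toFun v := ((v.1.1 + (v.2.1.1 + a * v.2.2.2 + v.2.1.2), v.1.2),
    ((v.2.1.1 + a * v.2.2.2 + v.2.1.2, v.2.1.2 + v.1.2), (v.2.2.1 + v.2.1.2, v.2.2.2)))
  map_add' u v := by ext <;> simp <;> ring
  map_smul' c v := by ext <;> simp <;> ring

theorem six_reg4 (v : (F × F) × ((F × F) × (F × F))) : six a b (reg4 a v) = six a b v := by
  simp [six, reg4]
  ring_nf
  simp [two0 (F := F), three0 (F := F), four0 (F := F), natCast_even0 (F := F) (n := 6) rfl, natCast_even0 (F := F) (n := 8) rfl, natCast_even0 (F := F) (n := 10) rfl, natCast_odd1 (F := F) (n := 5) rfl]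

theorem affHas_six (ha : a ≠ 0) : AffHas (six a b) 8 := by
  haveI := Fact.mk Nat.prime_two
  set T : Module.End F ((F × F) × ((F × F) × (F × F))) := reg4 a with hT
  have h4' : ∀ v, T (T (T (T v))) = v := fun v => by
    ext <;> simp [hT, reg4] <;> ring_nf <;> simp [two0 (F := F), three0 (F := F), four0 (F := F), natCast_even0 (F := F) (n := 6) rfl, natCast_even0 (F := F) (n := 8) rfl, natCast_even0 (F := F) (n := 10) rfl, natCast_odd1 (F := F) (n := 5) rfl]
  let g : ((F × F) × ((F × F) × (F × F))) ≃ₗ[F] ((F × F) × ((F × F) × (F × F))) :=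
    LinearEquiv.ofLinearMap T (T ∘ₗ T ∘ₗ T) (LinearMap.ext h4') (LinearMap.ext h4')
  let v : (F × F) × ((F × F) × (F × F)) := ((0, 1), ((0, 0), (0, 0)))
  refine ⟨g, v, six_reg4 a b, ?_, ?_⟩
  · let inc : (F × F × F × F) →ₗ[F] (F × F) × ((F × F) × (F × F)) :=
      { toFun := fun p => ((p.1, 0), ((p.2.1, p.2.2.1), (p.2.2.2, 0)))
        map_add' := fun p q => by ext <;> simp
        map_smul' := fun c p => by ext <;> simp }
    have h : LinearMap.range (g.toLinearMap - LinearMap.id) = LinearMap.range inc := by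
      refine le_antisymm ?_ ?_
      · rintro _ ⟨x, rfl⟩
        exact ⟨(x.2.1.1 + a * x.2.2.2 + x.2.1.2, a * x.2.2.2 + x.2.1.2, x.1.2, x.2.1.2), by
          ext <;> simp [inc, g, hT, reg4] <;> ring⟩
      · rintro _ ⟨⟨p, r, t, s⟩, rfl⟩
        refine ⟨((0, t), ((p + r, s), (0, (r + s) / a))), ?_⟩
        ext <;> simp [inc, g, hT, reg4, mul_div_cancel₀ _ ha] <;> ring_nf <;>
          simp [two0 (F := F), three0 (F := F), four0 (F := F), natCast_even0 (F := F) (n := 6) rfl, natCast_even0 (F := F) (n := 8) rfl, natCast_even0 (F := F) (n := 10) rfl, natCast_odd1 (F := F) (n := 5) rfl]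
    have hi : Function.Injective inc := fun p q e => by
      simp [inc, Prod.ext_iff] at e
      obtain ⟨h1, ⟨h2, h3⟩, h4⟩ := e
      exact Prod.ext h1 (Prod.ext h2 (Prod.ext h3 h4))
    rw [rk, h, LinearMap.finrank_range_of_inj hi]
    simp [Module.finrank_prod]
    decide
  · refine dvd_of_eq (orderOf_eq_prime_pow (p := 2) (n := 2) (fun h => ?_) ?_).symm
    · have := congrArg (fun p : Equiv.Perm ((F × F) × ((F × F) × (F × F))) => (p 0).1.1) h
      simp [pow_succ, aff_apply, v, g, hT, reg4] at this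
      ring_nf at this
      simp [natCast_odd1 (F := F) (n := 5) rfl] at this
    · refine Equiv.ext fun x => ?_
      show (aff g v ^ (8 : ℕ)) x = x
      rw [show (8 : ℕ) = 4 + 4 from rfl, pow_add, Equiv.Perm.mul_apply]
      have e : ∀ x, (aff g v ^ 4) x = x + (aff g v ^ 4) 0 := fun x => by
        rw [aff_pow, aff_apply, aff_apply, map_zero, zero_add]
        congr 1
        simpa [pow_succ, LinearEquiv.mul_apply, g] using h4' x
      rw [e, e x, add_assoc]
      have : (aff g v ^ 4) 0 + (aff g v ^ 4) 0 = 0 := by rw [← two_smul F, two0, zero_smul]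
      rw [this, add_zero]

theorem affHas_eight_minus [Finite F] (hab : ∀ x y : F, x ^ 2 + a * x * y + b * y ^ 2 = 0 → x = 0 ∧ y = 0) :
    AffHas (⇑(qfMinus 2 F a b)) 8 := by
  refine (affHas_six a b (aniso_ne_zero hab)).congr ((minusSucc 1).trans
    ((LinearEquiv.refl F (F × F)).prodCongr ((minusSucc 0).trans
      ((LinearEquiv.refl F (F × F)).prodCongr minusZero)))) fun v => ?_
  simp [six, qfMinus_apply, Cfsg.quadFormMinus, Fin.sum_univ_two, minusSucc, minusZero]

theorem affHas_eight_plus : AffHas (⇑(qfPlus 3 F)) 8 := by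
  let e : (Fin 3 ⊕ Fin 3 → F) ≃ₗ[F] (F × F) × ((F × F) × (F × F)) :=
    { toFun := fun v => ((v (.inl 0), v (.inr 0)), ((v (.inl 1), v (.inr 1)), (v (.inl 2), v (.inl 2) + v (.inr 2))))
      invFun := fun p => Sum.elim ![p.1.1, p.2.1.1, p.2.2.1] ![p.1.2, p.2.1.2, p.2.2.1 + p.2.2.2]
      map_add' := fun u v => by ext <;> simp <;> ring
      map_smul' := fun c v => by ext <;> simp <;> ring
      left_inv := fun v => by
        funext i
        rcases i with i | i <;> fin_cases i <;> simp <;> linear_combination (v (.inl 2)) * two0 (F := F)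
      right_inv := fun p => by
        ext <;> simp <;> linear_combination p.2.2.1 * two0 (F := F) }
  refine (affHas_six (1 : F) 0 one_ne_zero).congr e fun v => ?_
  simp [six, e, qfPlus_apply, Cfsg.quadFormPlus, Fin.sum_univ_three]
  linear_combination (v (.inl 2) ^ 2) * two0 (F := F)

end Six

/-- Two copies of the same binary form make a hyperbolic space of dimension four. -/
theorem oddHas_twice {a b : F} (ha : a ≠ 0) {N M : ℕ} (h : OddHas (⇑(qfMinus 0 F a b)) N)
    (h' : OddHas (⇑(qfMinus 0 F a b)) M) : OddHas (⇑(qfPlus 2 F)) (Nat.lcm N M) := by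
  let e : (Fin 2 ⊕ Fin 2 → F) ≃ₗ[F]
      (((Fin 0 ⊕ Fin 0) ⊕ Fin 2 → F) × ((Fin 0 ⊕ Fin 0) ⊕ Fin 2 → F)) :=
    { toFun := fun v =>
        (Sum.elim 0 ![(v (.inr 1) + a * v (.inl 0) + b * v (.inl 1)) / a, (v (.inr 0) + v (.inl 0)) / a],
          Sum.elim 0 ![(v (.inr 1) + a * v (.inl 0) + b * v (.inl 1)) / a + v (.inl 0),
            (v (.inr 0) + v (.inl 0)) / a + v (.inl 1)])
      invFun := fun p => Sum.elim ![p.2 (.inr 0) + p.1 (.inr 0), p.2 (.inr 1) + p.1 (.inr 1)]
        ![a * p.1 (.inr 1) + (p.2 (.inr 0) + p.1 (.inr 0)),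
          a * p.1 (.inr 0) + a * (p.2 (.inr 0) + p.1 (.inr 0)) + b * (p.2 (.inr 1) + p.1 (.inr 1))]
      map_add' := fun u v => by
        refine Prod.ext ?_ ?_ <;> funext i <;> rcases i with (i | i) | i <;>
          first | exact i.elim0 | (fin_cases i <;> simp <;> ring)
      map_smul' := fun c v => by
        refine Prod.ext ?_ ?_ <;> funext i <;> rcases i with (i | i) | i <;>
          first | exact i.elim0 | (fin_cases i <;> simp <;> ring)
      left_inv := fun v => by
        funext i
        rcases i with i | i <;> fin_cases i <;> simp <;> field_simp <;> ring_nf <;>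
          simp [two0 (F := F), three0 (F := F), four0 (F := F), natCast_even0 (F := F) (n := 6) rfl, natCast_even0 (F := F) (n := 8) rfl, natCast_even0 (F := F) (n := 10) rfl, natCast_odd1 (F := F) (n := 5) rfl]
      right_inv := fun p => by
        refine Prod.ext ?_ ?_ <;> funext i <;> rcases i with (i | i) | i <;>
          first
          | exact i.elim0
          | (fin_cases i <;> simp <;> field_simp <;> ring_nf <;>
              simp [two0 (F := F), three0 (F := F), four0 (F := F), natCast_even0 (F := F) (n := 6) rfl, natCast_even0 (F := F) (n := 8) rfl, natCast_even0 (F := F) (n := 10) rfl, natCast_odd1 (F := F) (n := 5) rfl]) }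
  refine (h.prod h').congr e fun v => ?_
  simp [qfMinus_apply, qfPlus_apply, Cfsg.quadFormMinus, Cfsg.quadFormPlus, Fin.sum_univ_two, e]
  field_simp
  ring_nf
  simp [two0 (F := F), three0 (F := F), four0 (F := F), natCast_even0 (F := F) (n := 6) rfl, natCast_even0 (F := F) (n := 8) rfl, natCast_even0 (F := F) (n := 10) rfl, natCast_odd1 (F := F) (n := 5) rfl]

theorem affHas_glue {a b : F} {m l N M : ℕ} (hG : Orth.Good (qfMinus (m + l) F a b))
    (h : AffHas (⇑(qfPlus m F)) N ∧ OddHas (⇑(qfMinus l F a b)) M ∨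
      OddHas (⇑(qfPlus m F)) N ∧ AffHas (⇑(qfMinus l F a b)) M) :
    AffHas (⇑(qfMinus (m + l) F a b)) (Nat.lcm N M) :=
  affHas_prod hG (glueEquiv F m l) (fun v => glueEquiv_form v) h

section List

variable [Fintype F]

theorem affHas_bound {a b : F} (hab : ∀ x y : F, x ^ 2 + a * x * y + b * y ^ 2 = 0 → x = 0 ∧ y = 0)
    (hG : Orth.Good (qfMinus 3 F a b)) :
    ∀ N ∈ bound, AffHas (⇑(qfMinus 3 F a b)) (val (Fintype.card F) N) := by
  set q := Fintype.card F with hq
  have hq0 : 0 < q := Fintype.card_pos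
  have he : Even q := even_q
  have ha : a ≠ 0 := aniso_ne_zero hab
  have hO : ∀ {j : ℕ} (s : Bool), j ≠ 0 → Odd (atomVal q (j, s)) := fun s hj => odd_atom s hj
  have hP : ∀ {d : ℕ}, 1 ≤ d → OddHas (⇑(qfPlus d F)) (q ^ d - 1) := fun {d} h =>
    oddHas_of_has (by simpa [atomVal] using hO false (j := d) (by omega)) (has_plus h)
  have hM : ∀ m, OddHas (⇑(qfMinus m F a b)) (q ^ (m + 1) + 1) := fun m =>
    oddHas_of_has (by simpa [atomVal] using hO true (j := m + 1) (by omega)) (has_minus hab m)
  have hI1 : OddHas (⇑(qfPlus 1 F)) 2 := oddHas_two _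
  have hI0 : OddHas (⇑(qfMinus 0 F a b)) 2 := oddHas_two _
  have hodd : ∀ {N : ℕ}, OddHas (⇑(qfMinus 3 F a b)) N → AffHas (⇑(qfMinus 3 F a b)) N := fun h =>
    affHas_of_odd hG h
  have hS : q - 1 ∣ q ^ 2 - 1 ∧ q + 1 ∣ q ^ 2 - 1 := by
    rw [show q ^ 2 - 1 = (q + 1) * (q - 1) by rw [← one_pow 2, Nat.sq_sub_sq, one_pow]]
    exact ⟨dvd_mul_left _ _, dvd_mul_right _ _⟩
  have h3 : q + 1 ∣ q ^ 3 + 1 := by simpa using (show Odd 3 by decide).nat_add_dvd_pow_add_pow q 1
  have h3' : q - 1 ∣ q ^ 3 - 1 := by simpa using Nat.sub_dvd_pow_sub_pow q 1 3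
  intro N hN
  simp only [bound, List.mem_cons, List.mem_nil_iff, or_false] at hN
  rcases hN with rfl | rfl | rfl | rfl | rfl | rfl | rfl | rfl | rfl | rfl | rfl | rfl
  · exact (hodd (hM 3)).mono (val_dvd (by simp) (by simp [atomVal]; rfl) (one_dvd _))
  · refine (hodd (oddHas_glue (hP one_le_two) (hM 1))).mono (val_dvd (by simp) ?_ (one_dvd _))
    simp only [List.forall_mem_cons, List.not_mem_nil, false_imp_iff, implies_true, and_true, atomVal, if_true,
      Bool.false_eq_true, if_false, pow_one, ← hq]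
    refine ⟨?_, dvd_lcm_of_left dvd_rfl, dvd_lcm_of_right dvd_rfl, dvd_lcm_of_left hS.1, dvd_lcm_of_left hS.2⟩
    rw [show q ^ 4 - 1 = (q ^ 2) ^ 2 - 1 by rw [← pow_mul]]
    exact sq_sub_one_dvd (Nat.even_pow.2 ⟨he, two_ne_zero⟩) (pow_pos hq0 _) (dvd_lcm_of_left dvd_rfl)
      (dvd_lcm_of_right dvd_rfl)
  · refine (hodd (oddHas_glue (hP le_rfl) (hM 2))).mono (val_dvd (by simp) ?_ (one_dvd _))
    simp only [List.forall_mem_cons, List.not_mem_nil, false_imp_iff, implies_true, and_true, atomVal, if_true,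
      Bool.false_eq_true, if_false, pow_one, ← hq]
    exact ⟨dvd_lcm_of_right dvd_rfl, dvd_lcm_of_right h3, dvd_lcm_of_left dvd_rfl⟩
  · refine (hodd (oddHas_glue (hP (show 1 ≤ 3 by omega)) (hM 0))).mono (val_dvd (by simp) ?_ (one_dvd _))
    simp only [List.forall_mem_cons, List.not_mem_nil, false_imp_iff, implies_true, and_true, atomVal, if_true,
      Bool.false_eq_true, if_false, pow_one, ← hq, zero_add]
    exact ⟨dvd_lcm_of_left dvd_rfl, dvd_lcm_of_right dvd_rfl, dvd_lcm_of_left h3'⟩
  · refine (hodd (oddHas_glue hI1 (hM 2))).mono (val_dvd (by simp) ?_ (Nat.dvd_lcm_left _ _))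
    simp only [List.forall_mem_cons, List.not_mem_nil, false_imp_iff, implies_true, and_true, atomVal, if_true,
      Bool.false_eq_true, if_false, pow_one, ← hq]
    exact ⟨dvd_lcm_of_right dvd_rfl, dvd_lcm_of_right h3⟩
  · refine (hodd (oddHas_glue (hP (show 1 ≤ 3 by omega)) hI0)).mono
      (val_dvd (by simp) ?_ (Nat.dvd_lcm_right _ _))
    simp only [List.forall_mem_cons, List.not_mem_nil, false_imp_iff, implies_true, and_true, atomVal, if_true,
      Bool.false_eq_true, if_false, pow_one, ← hq]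
    exact ⟨dvd_lcm_of_left dvd_rfl, dvd_lcm_of_left h3'⟩
  · refine (hodd (oddHas_glue hI1 (oddHas_glue (hP le_rfl) (hM 1)))).mono
      (val_dvd (by simp) ?_ (Nat.dvd_lcm_left _ _))
    simp only [List.forall_mem_cons, List.not_mem_nil, false_imp_iff, implies_true, and_true, atomVal, if_true,
      Bool.false_eq_true, if_false, pow_one, ← hq]
    exact ⟨dvd_lcm_of_right (dvd_lcm_of_right dvd_rfl), dvd_lcm_of_right (dvd_lcm_of_left dvd_rfl)⟩
  · refine (hodd (oddHas_glue (oddHas_twice ha (hM 0) hI0) (hM 1))).mono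
      (val_dvd (by simp) ?_ (dvd_lcm_of_left (Nat.dvd_lcm_right _ _)))
    simp only [List.forall_mem_cons, List.not_mem_nil, false_imp_iff, implies_true, and_true, atomVal, if_true,
      Bool.false_eq_true, if_false, pow_one, ← hq, zero_add]
    exact ⟨dvd_lcm_of_right dvd_rfl, dvd_lcm_of_left (dvd_lcm_of_left dvd_rfl)⟩
  · refine (affHas_glue (m := 2) (l := 1) hG (Or.inl ⟨affHas_four, hM 1⟩)).mono
      (val_dvd (by simp) ?_ (dvd_lcm_of_left (by norm_num)))
    simp only [List.forall_mem_cons, List.not_mem_nil, false_imp_iff, implies_true, and_true, atomVal, if_true,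
      Bool.false_eq_true, if_false, pow_one, ← hq]
    exact dvd_lcm_of_right dvd_rfl
  · refine (affHas_glue (m := 2) (l := 1) hG
      (Or.inl ⟨affHas_four, oddHas_glue (hP le_rfl) (hM 0)⟩)).mono
      (val_dvd (by simp) ?_ (dvd_lcm_of_left (by norm_num)))
    simp only [List.forall_mem_cons, List.not_mem_nil, false_imp_iff, implies_true, and_true, atomVal, if_true,
      Bool.false_eq_true, if_false, pow_one, ← hq, zero_add]
    exact ⟨dvd_lcm_of_right (sq_sub_one_dvd he hq0 (dvd_lcm_of_left dvd_rfl) (dvd_lcm_of_right dvd_rfl)),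
      dvd_lcm_of_right (dvd_lcm_of_left dvd_rfl), dvd_lcm_of_right (dvd_lcm_of_right dvd_rfl)⟩
  · refine (affHas_glue (m := 3) (l := 0) hG (Or.inl ⟨affHas_eight_plus, hM 0⟩)).mono
      (val_dvd (by simp) ?_ (dvd_lcm_of_left (by norm_num)))
    simp only [List.forall_mem_cons, List.not_mem_nil, false_imp_iff, implies_true, and_true, atomVal, if_true,
      Bool.false_eq_true, if_false, pow_one, ← hq, zero_add]
    exact dvd_lcm_of_right dvd_rfl
  · refine (affHas_glue (m := 1) (l := 2) hG
      (Or.inr ⟨hP le_rfl, affHas_eight_minus a b hab⟩)).mono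
      (val_dvd (by simp) ?_ (dvd_lcm_of_right (by norm_num)))
    simp only [List.forall_mem_cons, List.not_mem_nil, false_imp_iff, implies_true, and_true, atomVal, if_true,
      Bool.false_eq_true, if_false, pow_one, ← hq]
    exact dvd_lcm_of_left dvd_rfl

end List

end Cfsg.Agent.SpecSpEight
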